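import Cfsg.Agent.MaxSub.SubfieldMax.SL2

/-!
`SL₂` over a field with no quadratic extension of the ground field inside it is generated by at
least three upper transvections forming a module over the ground field and an irrational lower
transvection (helper17).
-/

set_option autoImplicit false

namespace Cfsg.Agent.SU3Geo98.SubfieldOdd

open Matrix OnePoint
open scoped MatrixGroups Classical
open Cfsg.Agent.PLocalB (upper lower)
open Cfsg.Agent.Dickson (PSL2)

attribute [local instance] Cfsg.Agent.PLocalB.lineAction Cfsg.Agent.Dickson.pslLine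

variable {F : Type*} [Field F]

theorem not_commute_upper_lower {s a : F} (hs : s ≠ 0) (ha : a ≠ 0)
    (h : (QuotientGroup.mk (upper s * lower a) : PSL2 F) = QuotientGroup.mk (lower a * upper s)) :
    False := by
  rcases Dickson.mk_eq_mk_iff.1 h with e | e
  · have := congrArg (fun M : SL(2, F) => M 0 0) e
    simp [Matrix.mul_apply, Fin.sum_univ_two] at this
    rcases this with h | h
    · exact hs h
    · exact ha h
  · have h01 := congrArg (fun M : SL(2, F) => M 0 1) e
    have h11 := congrArg (fun M : SL(2, F) => M 1 1) e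
    simp [Matrix.mul_apply, Fin.sum_univ_two] at h01 h11
    have h2 : (2 : F) = 0 := (mul_eq_zero.1 (by linear_combination h01 : (2 : F) * s = 0)).resolve_right hs
    exact mul_ne_zero ha hs (by linear_combination h11 - h2)

/-- A small power of a product of transvections is scalar only for quadratic traces. -/
theorem trace_root {s a : F} (ha : a ≠ 0) {k : ℕ} (hk1 : 1 ≤ k) (hk5 : k ≤ 5)
    (h : ((upper s * lower a) ^ k : SL(2, F)) 1 0 = 0) :
    2 + a * s = 0 ∨ (2 + a * s) ^ 2 - 1 = 0 ∨ (2 + a * s) ^ 2 - 2 = 0 ∨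
      (2 + a * s) ^ 2 - (2 + a * s) - 1 = 0 ∨ (2 + a * s) ^ 2 + (2 + a * s) - 1 = 0 := by
  set t := 2 + a * s with ht
  rw [Matrix.SpecialLinearGroup.coe_pow] at h
  set M : Matrix (Fin 2) (Fin 2) F := ((upper s * lower a : SL(2, F)) : Matrix (Fin 2) (Fin 2) F) with hM
  have hM' : M = !![1 + s * a, s; a, 1] := by
    rw [hM]
    ext i j
    fin_cases i <;> fin_cases j <;> simp [Matrix.mul_apply, Fin.sum_univ_two]
  have hrec : ∀ j, (M ^ (j + 2)) 1 0 = t * (M ^ (j + 1)) 1 0 - (M ^ j) 1 0 := by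
    intro j
    have h2 : M ^ 2 = t • M - 1 := by
      rw [hM', sq, ht]
      ext i j
      fin_cases i <;> fin_cases j <;> simp [Matrix.mul_apply, Fin.sum_univ_two] <;> ring
    rw [pow_add M j 2, h2, pow_succ, mul_sub, mul_one, Matrix.mul_smul]
    simp
  have e1 : (M ^ 1) 1 0 = a := by rw [pow_one, hM']; simp
  have e0 : (M ^ 0) 1 0 = (0 : F) := by simp
  have e2 := hrec 0
  rw [e0, e1, sub_zero] at e2
  have e3 := hrec 1
  rw [e2, e1] at e3
  have e4 := hrec 2
  rw [e3, e2] at e4
  have e5 := hrec 3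
  rw [e4, e3] at e5
  interval_cases k
  · rw [e1] at h; exact absurd h ha
  · rw [e2] at h
    exact Or.inl ((mul_eq_zero.1 h).resolve_right ha)
  · rw [e3] at h
    exact Or.inr (Or.inl ((mul_eq_zero.1 (by linear_combination h : (t ^ 2 - 1) * a = 0)).resolve_right ha))
  · rw [e4] at h
    rcases mul_eq_zero.1 (by linear_combination h : t * (t ^ 2 - 2) * a = 0) with h1 | h1
    · rcases mul_eq_zero.1 h1 with h2 | h2
      · exact Or.inl h2
      · exact Or.inr (Or.inr (Or.inl h2))
    · exact absurd h1 ha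
  · rw [e5] at h
    rcases mul_eq_zero.1
      (by linear_combination h : (t ^ 2 - t - 1) * (t ^ 2 + t - 1) * a = 0) with h1 | h1
    · rcases mul_eq_zero.1 h1 with h2 | h2
      · exact Or.inr (Or.inr (Or.inr (Or.inl h2)))
      · exact Or.inr (Or.inr (Or.inr (Or.inr h2)))
    · exact absurd h1 ha

theorem small_order_alt_five :
    ∀ g : alternatingGroup (Fin 5), g ^ 2 = 1 ∨ g ^ 3 = 1 ∨ g ^ 4 = 1 ∨ g ^ 5 = 1 := by
  decide +kernel

theorem small_order_alt_four :
    ∀ g : alternatingGroup (Fin 4), g ^ 2 = 1 ∨ g ^ 3 = 1 ∨ g ^ 4 = 1 ∨ g ^ 5 = 1 := by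
  decide +kernel

theorem small_order_perm_four :
    ∀ g : Equiv.Perm (Fin 4), g ^ 2 = 1 ∨ g ^ 3 = 1 ∨ g ^ 4 = 1 ∨ g ^ 5 = 1 := by
  decide +kernel

/-- Two elements of equal prime exponent in a dihedral group: one rotation commutes with all. -/
theorem dihedral_commute {n : ℕ} {p : ℕ} (hp : p.Prime) {x y z : DihedralGroup n}
    (hx : x ^ p = 1) (hy : y ^ p = 1) (hz : z ^ p = 1) (hxy : Commute x y) :
    Commute x z ∨ Commute y z ∨ Commute (x * y) z := by
  have hrot : p ≠ 2 → ∀ w : DihedralGroup n, w ^ p = 1 → ∃ i, w = .r i := by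
    intro hp2 w hw
    cases w with
    | r i => exact ⟨i, rfl⟩
    | sr i =>
      exfalso
      obtain ⟨m, rfl⟩ := hp.odd_of_ne_two hp2
      rw [pow_succ, pow_mul, sq, DihedralGroup.sr_mul_self, one_pow, one_mul] at hw
      rw [DihedralGroup.one_def] at hw
      cases hw
  by_cases hp2 : p = 2
  · subst hp2
    have hc : ∀ i : ZMod n, (DihedralGroup.r i : DihedralGroup n) ^ 2 = 1 → Commute (DihedralGroup.r i) z := by
      intro i hi
      rw [sq, DihedralGroup.r_mul_r, DihedralGroup.one_def] at hi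
      have hi' : i + i = 0 := DihedralGroup.r.inj hi
      have : -i = i := neg_eq_of_add_eq_zero_left hi'
      cases z with
      | r j => simp [Commute, SemiconjBy, add_comm]
      | sr j => simp [Commute, SemiconjBy, sub_eq_add_neg, this]
    cases x with
    | r i => exact Or.inl (hc i hx)
    | sr i =>
      cases y with
      | r j => exact Or.inr (Or.inl (hc j hy))
      | sr j =>
        have h : (DihedralGroup.sr i * DihedralGroup.sr j : DihedralGroup n) ^ 2 = 1 := by
          rw [hxy.mul_pow, hx, hy, mul_one]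
        rw [DihedralGroup.sr_mul_sr] at h ⊢
        exact Or.inr (Or.inr (hc _ h))
  · obtain ⟨i, rfl⟩ := hrot hp2 x hx
    obtain ⟨k, rfl⟩ := hrot hp2 z hz
    exact Or.inl (by simp [Commute, SemiconjBy, add_comm])

/-- `sl2_full` for groups of upper transvections of order at least three. -/
theorem sl2_small [Fintype F] (p : ℕ) [Fact p.Prime] [CharP F p] (F₀ : Subfield F)
    (htop : ∀ T : Subfield F, F₀ ≤ T → T = F₀ ∨ T = ⊤)
    (hquad : ∀ (x : F) (b c : F₀), x ^ 2 + b * x + c = 0 → x ∈ F₀)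
    (H : Subgroup SL(2, F))
    (U : AddSubgroup F) (hU : ∀ s ∈ U, upper s ∈ H) (hsmul : ∀ c ∈ F₀, ∀ s ∈ U, c * s ∈ U)
    {a : F} (hl : lower a ∈ H)
    {s₀ s₁ : F} (hs₀ : s₀ ∈ U) (hs₁ : s₁ ∈ U) (hs1 : s₁ ≠ 0) (hne : s₀ + s₁ ≠ 0)
    (has₀ : a * s₀ ∉ F₀) : ∀ A : SL(2, F), A ∈ H ∨ -A ∈ H := by
  have ha0 : a ≠ 0 := fun h => has₀ (by rw [h, zero_mul]; exact zero_mem _)
  have hs0 : s₀ ≠ 0 := fun h => has₀ (by rw [h, mul_zero]; exact zero_mem _)
  let π : SL(2, F) →* PSL2 F := QuotientGroup.mk' _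
  let K := H.map π
  have hupK : ∀ s ∈ U, π (upper s) ∈ K := fun s hs => ⟨_, hU s hs, rfl⟩
  have hlK : π (lower a) ∈ K := ⟨_, hl, rfl⟩
  let kN : K := ⟨π (upper s₀ * lower a), _, mul_mem (hU s₀ hs₀) hl, rfl⟩
  have hsmall : ∀ k, 1 ≤ k → k ≤ 5 → kN ^ k ≠ 1 := by
    intro k h1 h5 h
    have h' : π ((upper s₀ * lower a) ^ k) = π 1 := by
      rw [map_pow, map_one]; exact congrArg Subtype.val h
    have h10 : ((upper s₀ * lower a) ^ k : SL(2, F)) 1 0 = 0 := by
      rcases Dickson.mk_eq_mk_iff.1 h' with e | e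
      · rw [e]; simp
      · rw [e]; simp
    have key : 2 + a * s₀ ∈ F₀ := by
      rcases trace_root ha0 h1 h5 h10 with h | h | h | h | h
      · rw [h]; exact zero_mem _
      · exact hquad _ 0 ⟨-1, neg_mem (one_mem _)⟩ (by simp; linear_combination h)
      · exact hquad _ 0 ⟨-2, neg_mem (natCast_mem F₀ 2)⟩ (by simp; linear_combination h)
      · exact hquad _ ⟨-1, neg_mem (one_mem _)⟩ ⟨-1, neg_mem (one_mem _)⟩
          (by simp; linear_combination h)
      · exact hquad _ ⟨1, one_mem _⟩ ⟨-1, neg_mem (one_mem _)⟩ (by simp; linear_combination h)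
    exact has₀ (by simpa using sub_mem key (natCast_mem F₀ 2))
  have hexc : ∀ {G : Type} [Group G] (_ : K ≃* G),
      (∀ g : G, g ^ 2 = 1 ∨ g ^ 3 = 1 ∨ g ^ 4 = 1 ∨ g ^ 5 = 1) → False := by
    intro G _ e hG
    rcases hG (e kN) with h | h | h | h <;> rw [← map_pow] at h <;>
      have h' := e.injective (h.trans (map_one e).symm)
    · exact hsmall 2 (by norm_num) (by norm_num) h'
    · exact hsmall 3 (by norm_num) (by norm_num) h'
    · exact hsmall 4 (by norm_num) (by norm_num) h'
    · exact hsmall 5 (by norm_num) (by norm_num) h'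
  have hcomm : ∀ s ∈ U, s ≠ 0 →
      ¬ Commute (π (upper s)) (π (lower a)) := by
    intro s _ hs h
    exact not_commute_upper_lower hs ha0 (by simpa [π] using h.eq)
  rcases Dickson.kind' p K with ⟨k, -, hcyc, -⟩ | ⟨t, ht⟩ | ⟨n, -, -, ⟨e⟩⟩ | ⟨⟨e⟩⟩ | ⟨⟨e⟩⟩ |
      ⟨⟨e⟩⟩ | ⟨T, -, -, hiso, -, D, hD⟩
  · exfalso
    obtain ⟨g, hg⟩ := IsCyclic.exists_generator (α := K)
    obtain ⟨i, hi⟩ := Subgroup.mem_zpowers_iff.1 (hg ⟨_, hupK s₀ hs₀⟩)
    obtain ⟨j, hj⟩ := Subgroup.mem_zpowers_iff.1 (hg ⟨_, hlK⟩)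
    refine hcomm s₀ hs₀ hs0 ?_
    have h : Commute (⟨_, hupK s₀ hs₀⟩ : K) ⟨_, hlK⟩ := hi ▸ hj ▸ Commute.zpow_zpow_self g i j
    exact h.map K.subtype
  · exfalso
    have hu := ht _ (hupK s₀ hs₀)
    have hlw := ht _ hlK
    rw [mul_smul, mul_smul, smul_eq_iff_eq_inv_smul] at hu hlw
    generalize t⁻¹ • (∞ : OnePoint F) = w at hu hlw
    have hu' : upper s₀ • w = w := hu
    have hl' : lower a • w = w := hlw
    cases w with
    | infty =>
      rw [PLocalB.smul_infty_iff] at hl'
      simp [lower] at hl'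
      exact ha0 hl'
    | coe z =>
      rw [PLocalB.smul_coe_eq, if_neg (by simp)] at hu'
      simp at hu'
      exact hs0 hu'
  · exfalso
    have hpow : ∀ s : F, (upper s : SL(2, F)) ^ p = 1 ∧ (lower a : SL(2, F)) ^ p = 1 := by
      intro s
      constructor <;> refine Matrix.SpecialLinearGroup.ext _ _ fun i j => ?_
      · have : ∀ m : ℕ, (upper s : SL(2, F)) ^ m = upper ((m : F) * s) := fun m => by
          induction m with
          | zero => simp
          | succ m ih => rw [pow_succ, ih, PLocalB.upper_mul]; congr 1; push_cast; ring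
        rw [this p, CharP.cast_eq_zero, zero_mul]
        fin_cases i <;> fin_cases j <;> simp
      · have : ∀ m : ℕ, ((lower a : SL(2, F)) ^ m : SL(2, F)).1 = !![1, 0; (m : F) * a, 1] := fun m => by
          induction m with
          | zero => ext i j; fin_cases i <;> fin_cases j <;> simp
          | succ m ih =>
            rw [pow_succ, Matrix.SpecialLinearGroup.coe_mul, ih]
            ext i j
            fin_cases i <;> fin_cases j <;> simp [Matrix.mul_apply, Fin.sum_univ_two]
            ring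
        rw [this p, CharP.cast_eq_zero, zero_mul]
        fin_cases i <;> fin_cases j <;> simp
    let X : K := ⟨_, hupK s₀ hs₀⟩
    let Y : K := ⟨_, hupK s₁ hs₁⟩
    let Z : K := ⟨_, hlK⟩
    have hpowK : ∀ (s : F) (hs : s ∈ U), e ⟨_, hupK s hs⟩ ^ p = 1 := fun s hs => by
      rw [← map_pow, show (⟨_, hupK s hs⟩ : K) ^ p = 1 from Subtype.ext (by
        show π (upper s) ^ p = 1
        rw [← map_pow, (hpow s).1, map_one]), map_one]
    have hZ : e Z ^ p = 1 := by
      rw [← map_pow, show Z ^ p = 1 from Subtype.ext (by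
        show π (lower a) ^ p = 1
        rw [← map_pow, (hpow 0).2, map_one]), map_one]
    have hXY : Commute X Y := Subtype.ext (by
      show π (upper s₀) * π (upper s₁) = π (upper s₁) * π (upper s₀)
      rw [← map_mul, ← map_mul, PLocalB.upper_mul, PLocalB.upper_mul, add_comm])
    rcases dihedral_commute Fact.out (hpowK s₀ hs₀) (hpowK s₁ hs₁) hZ (hXY.map e.toMonoidHom)
      with h | h | h
    · exact hcomm s₀ hs₀ hs0 ((h.of_map e.injective).map K.subtype)
    · exact hcomm s₁ hs₁ hs1 ((h.of_map e.injective).map K.subtype)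
    · rw [← map_mul] at h
      refine hcomm (s₀ + s₁) (add_mem hs₀ hs₁) hne ?_
      have := (h.of_map e.injective).map K.subtype
      rw [← PLocalB.upper_mul, map_mul]
      exact this
  · exact (hexc e small_order_alt_four).elim
  · exact (hexc e small_order_perm_four).elim
  · exact (hexc e small_order_alt_five).elim
  · have hmem : ∀ s ∈ U, (2 + a * s) ^ 2 ∈ T := by
      intro s hs
      have h := MaxSub.SubfieldMax.trace_sq_mem T D
        (hD _ (Subgroup.mem_map_of_mem π (mul_mem (hU s hs) hl)))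
      convert h using 2
      simp [Matrix.mul_apply, Fin.sum_univ_two]
      ring
    have hlin : ∀ s ∈ U, a * s ∈ T := by
      intro s hs
      by_cases h2 : (2 : F) = 0
      · have := hmem s hs
        rw [h2, zero_add] at this
        have hsqT : (a * s) ^ 2 ∈ T := this
        have : CharP F 2 := CharTwo.of_one_ne_zero_of_two_eq_zero one_ne_zero h2
        obtain ⟨z, hz⟩ := (FiniteField.isSquare_of_char_two
          (ringChar.eq T 2) ⟨_, hsqT⟩ : IsSquare (⟨_, hsqT⟩ : T))
        have hz' : (a * s) ^ 2 = (z : F) ^ 2 := by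
          have := congrArg Subtype.val hz
          simpa [sq] using this
        rw [(CharTwo.sq_injective hz' : a * s = z)]
        exact z.2
      · have h1 := sub_mem (hmem s hs) (hmem (-s) (neg_mem hs))
        have h8 : (8 : F) ≠ 0 := by
          rw [show (8 : F) = 2 ^ 3 by norm_num]; exact pow_ne_zero _ h2
        have h8T : (8 : F) ∈ T := natCast_mem T 8
        have := div_mem h1 h8T
        convert this using 1
        field_simp
        ring
    have hF₀ : F₀ ≤ T := by
      intro c hc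
      have h := div_mem (hlin _ (hsmul c hc s₀ hs₀)) (hlin s₀ hs₀)
      rwa [show a * (c * s₀) / (a * s₀) = c by field_simp] at h
    have hT : T = ⊤ := (htop T hF₀).resolve_left fun h => has₀ (h ▸ hlin s₀ hs₀)
    subst hT
    have hK : K = ⊤ := by
      refine Subgroup.eq_top_of_le_card K ?_
      let f : F →+* (⊤ : Subfield F) := (RingHom.id F).codRestrict _ fun _ => trivial
      refine le_trans (Nat.card_le_card_of_injective _ (Dickson.extend_injective f)) ?_
      rcases hiso with ⟨⟨e⟩⟩ | ⟨⟨e⟩⟩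
      · exact (Nat.card_congr e.toEquiv).ge
      · have := Finite.of_equiv K e.toEquiv
        exact (Nat.card_le_card_of_injective _
          Matrix.ProjectiveSpecialLinearGroup.toPGL_injective).trans (Nat.card_congr e.toEquiv).ge
    intro A
    obtain ⟨B, hB, hBA⟩ : π A ∈ K := hK ▸ Subgroup.mem_top _
    rcases Dickson.mk_eq_mk_iff.1 hBA with e | e
    · exact Or.inl (e ▸ hB)
    · exact Or.inr (e ▸ hB)

end Cfsg.Agent.SU3Geo98.SubfieldOdd
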