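import Cfsg.Agent.MaxSub.SubfieldHerm.Main
import Cfsg.Agent.SU3Geo98.SubfieldOdd.SL2Small

/-!
An irrational pair of transvections over a hyperbolic plane makes the first point a centre
(helper17, after `SU4Geo98.HermFour.centre_of_seed`).
-/

set_option autoImplicit false
set_option linter.unusedSectionVars false

namespace Cfsg.Agent.SU3Geo98.SubfieldOdd

open Matrix Cfsg.Agent.MaxSub Cfsg.Agent.MaxSub.SubfieldHerm Cfsg.Agent.HermStab
open scoped MatrixGroups Classical
open Cfsg.Agent.PLocalB (upper lower)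

variable {ι : Type} [Fintype ι] [DecidableEq ι] {F : Type*} [Field F] [Fintype F]
variable {σ : F ≃+* F} {f : (ι → F) → (ι → F) → F} {F₀ : Subfield F} {L : Subgroup (GL ι F)}

set_option maxHeartbeats 800000 in
theorem centre_of_plane (D : Data σ f F₀ L) {r : ℕ} (hr : r.Prime) (hr2 : r ≠ 2) (hq : Nat.card F = Nat.card F₀ ^ r)
    {b d : ι → F} (hfb : f b b = 0) (hfd : f d d = 0) (hdb' : f d b = 1)
    (U₀ : AddSubgroup F) (hU₀ : ∀ c ∈ U₀, c + σ c = 0 ∧ ut f b c ∈ L)
    (hsmul₀ : ∀ k ∈ F₀, σ k = k → ∀ c ∈ U₀, k * c ∈ U₀)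
    {a₀ : F} (ha₀ : a₀ + σ a₀ = 0) (hTd : ut f d a₀ ∈ L)
    {c₁ c₂ : F} (hc₁ : c₁ ∈ U₀) (hc₂ : c₂ ∈ U₀) (hc₂0 : c₂ ≠ 0) (hne : c₁ + c₂ ≠ 0)
    (hirr : a₀ * c₁ ∉ F₀) : Centre σ f L b := by
  have hf := D.hf
  refine ⟨hfb, ?_⟩
  have hc₁0 : c₁ ≠ 0 := fun h => hirr (by rw [h, mul_zero]; exact zero_mem _)
  have hσc₁ : σ c₁ = -c₁ := eq_neg_of_add_eq_zero_right (hU₀ c₁ hc₁).1
  have hσa₀ : σ a₀ = -a₀ := eq_neg_of_add_eq_zero_right ha₀
  have hbd' : f b d = 1 := by rw [hf.herm, hdb', map_one]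
  -- the fields
  let Fq := realPart σ
  let Fq₀ : Subfield Fq := F₀.comap Fq.subtype
  have hstab : ∀ x ∈ F₀, σ x ∈ F₀ := fun x hx => by
    rw [show σ x = D.σ₀ ⟨x, hx⟩ from (D.σ₀_coe ⟨x, hx⟩).symm]; exact SetLike.coe_mem _
  obtain ⟨l, hlF, hlne⟩ : ∃ l ∈ F₀, σ l ≠ l := by
    by_contra h
    push Not at h
    exact D.hf₀.ne_refl (RingEquiv.ext fun x => Subtype.ext ((D.σ₀_coe x).trans (h x x.2)))
  have hcard₀ : Nat.card Fq₀ = Nat.card (F₀ ⊓ realPart σ : Subfield F) :=
    Nat.card_congr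
      { toFun := fun x => ⟨((x : Fq) : F), x.2, (x : Fq).2⟩
        invFun := fun x => ⟨⟨x.1, x.2.2⟩, x.2.1⟩
        left_inv := fun x => rfl
        right_inv := fun x => rfl }
  have hF₀sq := card_eq_sq hf.involutive F₀ hstab hlF hlne
  have hFsq := card_eq_sq hf.involutive (⊤ : Subfield F) (fun x _ => Subfield.mem_top _)
    (Subfield.mem_top l) hlne
  rw [top_inf_eq, Nat.card_congr Subfield.topEquiv.toEquiv] at hFsq
  rw [← hcard₀] at hF₀sq
  have hq₀ : 2 ≤ Nat.card Fq₀ := Finite.one_lt_card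
  have hFq : Nat.card Fq = Nat.card Fq₀ ^ r := by
    refine (Nat.pow_left_injective two_ne_zero ?_ :)
    show Nat.card Fq ^ 2 = (Nat.card Fq₀ ^ r) ^ 2
    rw [← hFsq, hq, hF₀sq, ← pow_mul, ← pow_mul, mul_comm]
  -- the group acting on the plane
  let H : Subgroup SL(2, Fq) :=
    { carrier := {A | ∃ g ∈ L,
        (∀ z, f z b = 0 → f z (d) = 0 → (g : Matrix ι ι F) *ᵥ z = z) ∧
        (g : Matrix ι ι F) *ᵥ (c₁ • b) =
          (A 0 0 : F) • (c₁ • b) + (A 1 0 : F) • d ∧
        (g : Matrix ι ι F) *ᵥ d =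
          (A 0 1 : F) • (c₁ • b) + (A 1 1 : F) • d}
      one_mem' := ⟨1, one_mem _, by simp, by simp, by simp⟩
      mul_mem' := by
        rintro A B ⟨g, hg, gR, g1, g2⟩ ⟨k, hk, kR, k1, k2⟩
        refine ⟨g * k, mul_mem hg hk, fun z h1 h2 => ?_, ?_, ?_⟩
        · rw [Units.val_mul, ← mulVec_mulVec, kR z h1 h2, gR z h1 h2]
        · rw [Units.val_mul, ← mulVec_mulVec, k1, mulVec_add,
            mulVec_smul _ (B 0 0 : F), mulVec_smul _ (B 1 0 : F), g1, g2]
          simp only [Matrix.SpecialLinearGroup.coe_mul, Matrix.mul_apply, Fin.sum_univ_two]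
          push_cast
          module
        · rw [Units.val_mul, ← mulVec_mulVec, k2, mulVec_add,
            mulVec_smul _ (B 0 1 : F), mulVec_smul _ (B 1 1 : F), g1, g2]
          simp only [Matrix.SpecialLinearGroup.coe_mul, Matrix.mul_apply, Fin.sum_univ_two]
          push_cast
          module
      inv_mem' := by
        rintro A ⟨g, hg, gR, g1, g2⟩
        have hd : (A 0 0 : F) * A 1 1 - A 0 1 * A 1 0 = 1 := by
          have := congrArg (Subtype.val : Fq → F) (PLocalB.det_entries A)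
          push_cast at this
          exact this
        have hinv : (A⁻¹ : SL(2, Fq)).1 = !![A 1 1, -A 0 1; -A 1 0, A 0 0] := by
          rw [Matrix.SpecialLinearGroup.coe_inv, Matrix.adjugate_fin_two]
        refine ⟨g⁻¹, inv_mem hg, fun z h1 h2 => ?_, ?_, ?_⟩
        · conv_lhs => rw [← gR z h1 h2]
          exact inv_mulVec_mulVec g z
        · apply mulVec_injective g
          show (g : Matrix ι ι F) *ᵥ _ = (g : Matrix ι ι F) *ᵥ _
          rw [mulVec_inv_mulVec, mulVec_add, mulVec_smul _ (((A⁻¹ : SL(2, Fq)) 0 0 : Fq) : F),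
            mulVec_smul _ (((A⁻¹ : SL(2, Fq)) 1 0 : Fq) : F), g1, g2, hinv]
          simp only [Matrix.of_apply, Matrix.cons_val', Matrix.cons_val_zero, Matrix.cons_val_one,
            Matrix.empty_val', Matrix.cons_val_fin_one, NegMemClass.coe_neg]
          linear_combination (norm := module) -hd • (c₁ • b)
        · apply mulVec_injective g
          show (g : Matrix ι ι F) *ᵥ _ = (g : Matrix ι ι F) *ᵥ _
          rw [mulVec_inv_mulVec, mulVec_add, mulVec_smul _ (((A⁻¹ : SL(2, Fq)) 0 1 : Fq) : F),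
            mulVec_smul _ (((A⁻¹ : SL(2, Fq)) 1 1 : Fq) : F), g1, g2, hinv]
          simp only [Matrix.of_apply, Matrix.cons_val', Matrix.cons_val_zero, Matrix.cons_val_one,
            Matrix.empty_val', Matrix.cons_val_fin_one, NegMemClass.coe_neg]
          linear_combination (norm := module) -hd • d }
  let U : AddSubgroup Fq :=
    { carrier := {s | c₁ * (s : F) ∈ U₀}
      zero_mem' := by show c₁ * _ ∈ U₀; simp
      add_mem' := fun {x y} hx hy => by
        show c₁ * ((x : F) + y) ∈ U₀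
        rw [mul_add]; exact add_mem hx hy
      neg_mem' := fun {x} hx => by
        show c₁ * -(x : F) ∈ U₀
        rw [mul_neg]; exact neg_mem hx }
  have hupper : ∀ s ∈ U, upper s ∈ H := fun s hs =>
    ⟨_, (hU₀ _ hs).2, fun z h1 _ => by rw [ut_mulVec hf hfb, h1, mul_zero, zero_smul, add_zero],
      by rw [ut_mulVec hf hfb, hf.smul_left, hfb]; simp [upper],
      by rw [ut_mulVec hf hfb, hdb', mul_one]; simp [upper, smul_smul, add_comm, mul_comm]⟩
  have hsq : σ (a₀ * c₁) = a₀ * c₁ := by rw [map_mul, hσa₀, hσc₁, neg_mul_neg]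
  let α : Fq := ⟨a₀ * c₁, hsq⟩
  have hlow : lower α ∈ H :=
    ⟨_, hTd, fun z _ h2 => by
        rw [ut_mulVec hf hfd, h2, mul_zero, zero_smul, add_zero],
      by rw [ut_mulVec hf hfd, hf.smul_left, hbd', mul_one]; simp [lower, α],
      by rw [ut_mulVec hf hfd, hfd]; simp [lower]⟩
  have hsmul : ∀ k ∈ Fq₀, ∀ s ∈ U, k * s ∈ U := by
    intro k hk s hs
    show c₁ * ((k * s : Fq) : F) ∈ U₀
    rw [Subfield.coe_mul, mul_left_comm]
    exact hsmul₀ _ hk k.2 _ hs
  obtain ⟨p, hp⟩ := CharP.exists F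
  have : Fact p.Prime := ⟨CharP.char_is_prime F p⟩
  have : CharP Fq p := Fq.subtype.charP Subtype.val_injective p
  have hquad : ∀ (x : Fq) (b c : Fq₀), x ^ 2 + b * x + c = 0 → x ∈ Fq₀ := by
    intro x b c h
    by_cases hc : c = 0
    · subst hc
      rw [ZeroMemClass.coe_zero, add_zero, sq, ← add_mul] at h
      rcases mul_eq_zero.1 h with h | h
      · rw [eq_neg_of_add_eq_zero_left h]; exact neg_mem b.2
      · rw [h]; exact zero_mem _
    · exact mem_of_quadratic hr hr2 hFq (p := (1 : Fq₀)) (q := b) hc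
        (by rw [OneMemClass.coe_one, one_mul]; exact h)
  have h2U : (⟨c₂ / c₁, show σ _ = _ by
      rw [map_div₀, hσc₁, eq_neg_of_add_eq_zero_right (hU₀ c₂ hc₂).1, neg_div_neg_eq]⟩ : Fq) ∈ U :=
    show c₁ * (c₂ / c₁) ∈ U₀ by rw [mul_div_cancel₀ _ hc₁0]; exact hc₂
  have h1U : (1 : Fq) ∈ U := show c₁ * ((1 : Fq) : F) ∈ U₀ by simpa using hc₁
  have hfull := sl2_small p Fq₀ (prime_index Fq₀ hr hFq) hquad H U hupper hsmul hlow h1U h2U
    (fun h => by
      have := congrArg Subtype.val h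
      simp [hc₂0, hc₁0] at this)
    (fun h => by
      have := congrArg Subtype.val h
      simp at this
      field_simp at this
      exact hne (by simpa using this))
    (fun h => hirr (by
      have h' : ((α * 1 : Fq) : F) ∈ F₀ := h
      simpa [α] using h'))
  -- every upper transvection is induced
  have hup : ∀ t : Fq, upper t ∈ H := by
    intro t
    by_cases h2 : (2 : Fq) = 0
    · rcases hfull (upper t) with h | h
      · exact h
      · have : -(upper t) = upper t := Subtype.ext (by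
          rw [Matrix.SpecialLinearGroup.coe_neg]
          refine Matrix.ext fun i j => ?_
          rw [Matrix.neg_apply, eq_comm, eq_neg_iff_add_eq_zero, ← two_mul, h2, zero_mul])
        rwa [this] at h
    · have hhalf : t / 2 + t / 2 = t := by rw [← add_div, ← two_mul, mul_div_cancel_left₀ _ h2]
      rcases hfull (upper (t / 2)) with h | h <;> have h' := mul_mem h h
      · rwa [PLocalB.upper_mul, hhalf] at h'
      · rwa [neg_mul_neg, PLocalB.upper_mul, hhalf] at h'
  intro e he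
  let t : Fq := ⟨e / c₁, show σ _ = _ by
    rw [map_div₀, eq_neg_of_add_eq_zero_right he, hσc₁, neg_div_neg_eq]⟩
  obtain ⟨g, hg, gR, g1, g2⟩ := hup t
  simp [upper] at g1 g2
  have hgb : (g : Matrix ι ι F) *ᵥ b = b := by
    have := congrArg (fun v => (c₁)⁻¹ • v) g1
    simpa [mulVec_smul, smul_smul, hc₁0] using this
  have heq : g = ut f b e := gl_ext fun z => by
    set z' := z - f z (d) • b - f z b • d with hz'
    have h1 : f z' b = 0 := by
      rw [hz', hsub_left hf, hsub_left hf, hf.smul_left, hf.smul_left, hfb, hdb']; ring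
    have h2 : f z' (d) = 0 := by
      rw [hz', hsub_left hf, hsub_left hf, hf.smul_left, hf.smul_left, hfd, hbd']; ring
    have hz : z = z' + f z (d) • b + f z b • d := by rw [hz']; abel
    conv_lhs => rw [hz, mulVec_add, mulVec_add, mulVec_smul, mulVec_smul, gR z' h1 h2, hgb, g2]
    rw [ut_mulVec hf hfb, hz', show (t : F) = e / c₁ from rfl, smul_smul, div_mul_cancel₀ _ hc₁0]
    module
  exact heq ▸ hg

end Cfsg.Agent.SU3Geo98.SubfieldOdd
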