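import Cfsg.Agent.SU3Geo98.SubfieldOdd.Pair
import Cfsg.Agent.ZStar.Main
import Cfsg.Agent.PF14.Compose

/-!
Overgroups of the rational unitary group over the field of four elements: without a second central
parameter at a rational point every transvection conjugate to a rational one is rational
(Glauberman's theorem; helper17).
-/

set_option autoImplicit false
set_option linter.unusedSectionVars false

namespace Cfsg.Agent.SU3Geo98.SubfieldOdd

open Matrix Cfsg.Agent.MaxSub Cfsg.Agent.MaxSub.SubfieldHerm Cfsg.Agent.HermStab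
open scoped Classical

variable {ι : Type} [Fintype ι] [DecidableEq ι] {F : Type*} [Field F] [Fintype F] [CharP F 2]
variable {σ : F ≃+* F} {f : (ι → F) → (ι → F) → F}

/-- An isotropic point whose transvections in `L` form a group of order two. -/
structure Good (σ : F ≃+* F) (f : (ι → F) → (ι → F) → F) (L : Subgroup (GL ι F)) (v : ι → F) :
    Prop where
  ne : v ≠ 0
  iso : f v v = 0
  mem : ut f v 1 ∈ L
  one : ∀ c, c + σ c = 0 → c ≠ 0 → ut f v c ∈ L → c = 1

omit [Fintype F] [CharP F 2] in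
theorem IsScal.mul {g h : GL ι F} (hg : IsScal g) (hh : IsScal h) : IsScal (g * h) := by
  obtain ⟨r, hr⟩ := hg
  obtain ⟨s, hs⟩ := hh
  exact ⟨r * s, fun x => by rw [ap_mul, hs, hr, smul_smul]⟩

omit [Fintype F] [CharP F 2] in
theorem IsScal.inv [Nonempty ι] {g : GL ι F} (hg : IsScal g) : IsScal g⁻¹ := by
  obtain ⟨r, hr⟩ := hg
  have hr0 : r ≠ 0 := fun h => by
    have := hr (fun _ => 1)
    rw [h, zero_smul] at this
    exact mulVec_ne_zero g (fun e => one_ne_zero (congrFun e (Classical.arbitrary ι))) this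
  refine ⟨r⁻¹, fun x => ?_⟩
  have h := hr (ap g⁻¹ x)
  rw [← ap_mul, mul_inv_cancel, ap_one] at h
  rw [eq_comm, inv_smul_eq_iff₀ hr0]
  exact h

omit [Fintype F] [CharP F 2] in
theorem IsScal.conj {g k : GL ι F} (hg : IsScal g) : IsScal (k * g * k⁻¹) := by
  obtain ⟨r, hr⟩ := hg
  exact ⟨r, fun x => by rw [ap_mul, ap_mul, hr, ap_smul, ← ap_mul, mul_inv_cancel, ap_one]⟩

omit [Fintype F] [CharP F 2] in
theorem scal_eq {g : GL ι F} {r : F} (h : ∀ x, ap g x = r • x) :
    (g : Matrix ι ι F) = r • 1 :=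
  Matrix.ext_iff_mulVec.mpr fun x => by rw [smul_mulVec, one_mulVec]; exact h x

section

variable (hf : Geo.IsUnitaryForm σ f) (h3 : Fintype.card ι = 3) {L : Subgroup (GL ι F)}
include hf h3

theorem nonempty_of : Nonempty ι := Fintype.card_pos_iff.1 (by omega)

theorem skew_norm (r : F) : σ r * r + σ (σ r * r) = 0 := by
  rw [map_mul, hf.involutive, mul_comm r (σ r), CharTwo.add_self_eq_zero]

theorem ut_smul_one {v : ι → F} (hv : f v v = 0) (r : F) :
    ut f (r • v) 1 = ut f v (σ r * r) := gl_ext fun x => by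
  rw [ut_mulVec hf (by rw [hf.smul_left, hsmul_right hf, hv]; simp), ut_mulVec hf hv,
    hsmul_right hf]
  module

theorem ut_one_sq {v : ι → F} (hv : f v v = 0) : ut f v 1 * ut f v 1 = (1 : GL ι F) :=
  gl_ext fun x => by
    rw [Units.val_mul, ← mulVec_mulVec, ut_mulVec hf hv, ut_mulVec hf hv, hf.add_left,
      hf.smul_left, hv, mul_zero, add_zero, add_assoc, ← add_smul, CharTwo.add_self_eq_zero,
      zero_smul, add_zero, Units.val_one, one_mulVec]

theorem ut_one_inv {v : ι → F} (hv : f v v = 0) : (ut f v 1)⁻¹ = ut f v 1 :=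
  inv_eq_of_mul_eq_one_right (ut_one_sq hf h3 hv)

theorem one_add_one : (1 : F) + σ 1 = 0 := by rw [map_one, CharTwo.add_self_eq_zero]

theorem Good.map (hLsu : L ≤ su f) {v : ι → F} (hv : Good σ f L v) {l : GL ι F} (hl : l ∈ L) :
    Good σ f L (ap l v) := by
  have hli := (hLsu hl).1
  refine ⟨mulVec_ne_zero l hv.ne, (mem_isom.1 hli v v).trans hv.iso, ?_, fun c hc hc0 h => ?_⟩
  · rw [← ut_conj hf hv.iso 1 hli]
    exact mul_mem (mul_mem hl hv.mem) (inv_mem hl)
  · refine hv.one c hc hc0 ?_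
    have := mul_mem (mul_mem (inv_mem hl) h) hl
    rw [← ut_conj hf hv.iso c hli] at this
    simpa [mul_assoc] using this

/-- The transvections of one good point in the orbit. -/
theorem Good.eq_of_prop {v e : ι → F} (hv : ut f v 1 ∈ L) (hv0 : v ≠ 0) (he : Good σ f L e)
    {r : F} (hr : v = r • e) : ut f v 1 = ut f e 1 := by
  subst hr
  rw [ut_smul_one hf h3 he.iso] at hv ⊢
  have hr0 : r ≠ 0 := fun h => hv0 (by rw [h, zero_smul])
  rw [he.one _ (skew_norm hf h3 r) (mul_ne_zero ((map_ne_zero σ).2 hr0) hr0) hv]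

theorem scal_cube {g : GL ι F} (hg : g ∈ su f) {r : F} (h : ∀ x, ap g x = r • x) : r ^ 3 = 1 := by
  have h1 : Matrix.GeneralLinearGroup.det g = 1 := hg.2
  have h2 := congrArg Units.val h1
  rw [GeneralLinearGroup.val_det_apply, scal_eq h, det_smul, det_one, h3, mul_one] at h2
  exact h2

end

variable {F₀ : Subfield F} {L : Subgroup (GL ι F)}

set_option maxHeartbeats 800000 in
theorem no_irrational (D : Data σ f F₀ L) (h3 : Fintype.card ι = 3)
    (hreal : ∀ x : F, x ∈ F₀ → σ x = x → x = 0 ∨ x = 1)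
    (hseed : ∀ e : ι → F₀, e ≠ 0 → D.f₀ e e = 0 →
      ∀ c, c + σ c = 0 → ut f (emb e) c ∈ L → c ∈ F₀)
    {h : GL ι F} (hh : h ∈ L) {e₀ : ι → F₀} (he₀ : D.f₀ e₀ e₀ = 0)
    (hirr : Irr f F₀ (ap h (emb e₀)) 1) : False := by
  have hf := D.hf
  haveI := nonempty_of hf h3
  haveI : Finite (GL ι F) := inferInstance
  have h01 : (1 : F₀) + D.σ₀ 1 = 0 := Subtype.ext (by
    rw [Subfield.coe_add, D.σ₀_coe]; exact one_add_one hf h3)
  have hgood : ∀ e : ι → F₀, e ≠ 0 → D.f₀ e e = 0 → Good σ f L (emb e) := fun e he0 hee =>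
    ⟨fun h => he0 (emb_injective (h.trans emb_zero.symm)), D.f_emb_zero hee,
      by simpa using D.ut_mem hee h01, fun c hc hc0 hcL => by
        have hc' : σ c = c := by
          rw [eq_neg_of_add_eq_zero_right hc, CharTwo.neg_eq]
        exact (hreal c (hseed e he0 hee c hc hcL) hc').resolve_left hc0⟩
  have he₀0 : e₀ ≠ 0 := fun h0 => by
    obtain ⟨x, y, hxy⟩ := hirr
    apply hxy
    rw [h0, emb_zero, ap, mulVec_zero, hzero_right hf, mul_zero, zero_mul]
    exact zero_mem _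
  -- a rational frame
  obtain ⟨e, d, w, hee, hdd, hde, hwe, hwd, hww, hdec⟩ := exists_frame D.hf₀ h3
  have hed : D.f₀ e d = 1 := by rw [D.hf₀.herm, hde, map_one]
  have he0 : e ≠ 0 := fun h => by rw [h, hzero_right D.hf₀] at hde; exact zero_ne_one hde
  have hd0 : d ≠ 0 := fun h => by rw [h, hzero_left D.hf₀] at hde; exact zero_ne_one hde
  obtain ⟨τ, hτ⟩ := exists_trace D.hf₀ (r := -(D.f₀ w w)) (by rw [map_neg, ← D.hf₀.herm])
  set g := w + τ • e + d with hg
  have hgg : D.f₀ g g = 0 := by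
    simp [hg, D.hf₀.add_left, hadd_right D.hf₀, D.hf₀.smul_left, hsmul_right D.hf₀, hee, hdd, hde,
      hed, hwe, hwd, hswap_zero D.hf₀ hwe, hswap_zero D.hf₀ hwd]
    linear_combination hτ
  have hge : D.f₀ g e = 1 := by
    simp [hg, D.hf₀.add_left, D.hf₀.smul_left, hee, hde, hwe]
  have hg0 : g ≠ 0 := fun h => by rw [h, hzero_left D.hf₀] at hge; exact zero_ne_one hge
  have Ge := hgood e he0 hee
  have Gd := hgood d hd0 hdd
  have Gg := hgood g hg0 hgg
  set T := ut f (emb e) 1 with hT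
  have hsu := D.le_su
  have hTT : T * T = 1 := ut_one_sq hf h3 Ge.iso
  -- commutators with the transvection at `e` have odd order
  let tG : L := ⟨T, Ge.mem⟩
  have hto : orderOf tG = 2 := by
    refine orderOf_eq_prime (Subtype.ext (by show T ^ 2 = 1; rw [sq]; exact hTT)) fun h => ?_
    have h' : T = 1 := congrArg Subtype.val h
    have := congrArg (fun k => ap k (emb d)) h'
    simp only [hT, ap, ut_mulVec hf Ge.iso, Units.val_one, one_mulVec] at this
    rw [D.f_emb, hde] at this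
    simp at this
    exact he0 (emb_injective (this.trans emb_zero.symm))
  have hiso : ZStar.OddComm tG := by
    intro k
    set v := ap (k : GL ι F) (emb e) with hv
    have Gv : Good σ f L v := Ge.map hf h3 hsu k.2
    have hval : ((tG * k * tG⁻¹ * k⁻¹ : L) : GL ι F) = T * ut f v 1 := by
      show T * (k : GL ι F) * T⁻¹ * (k : GL ι F)⁻¹ = _
      rw [ut_one_inv hf h3 Ge.iso, hv, ← ut_conj hf Ge.iso 1 (hsu k.2).1]
      simp [mul_assoc, hT]
    rw [← Subgroup.orderOf_coe, hval]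
    by_contra hodd
    set T' := ut f v 1 with hT'
    have hT'T' : T' * T' = 1 := ut_one_sq hf h3 Gv.iso
    set p := T * T' with hp
    rw [Nat.not_odd_iff_even] at hodd
    obtain ⟨m, hm⟩ := hodd
    have hpos : 0 < orderOf p := orderOf_pos p
    set z := p ^ m with hz
    have hz2 : z * z = 1 := by rw [hz, ← pow_add, ← hm, pow_orderOf_eq_one]
    have hz1 : z ≠ 1 := pow_ne_one_of_lt_orderOf (by omega) (by omega)
    have hzinv : z⁻¹ = z := inv_eq_of_mul_eq_one_right hz2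
    have hcomm : ∀ S : GL ι F, S * p * S⁻¹ = p⁻¹ → Commute z S := fun S hS => by
      show z * S = S * z
      have : S * z * S⁻¹ = z := by rw [hz, ← conj_pow, hS, inv_pow, ← hz, hzinv]
      exact (mul_inv_eq_iff_eq_mul.1 this).symm
    have hpinv : p⁻¹ = T' * T := by
      rw [hp, _root_.mul_inv_rev, inv_eq_of_mul_eq_one_right hTT, inv_eq_of_mul_eq_one_right hT'T']
    have hc1 : Commute z T := hcomm T (by
      rw [hpinv, hp, inv_eq_of_mul_eq_one_right hTT]
      simp [← mul_assoc, hTT])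
    have hc2 : Commute z T' := hcomm T' (by
      rw [hpinv, hp, inv_eq_of_mul_eq_one_right hT'T']
      simp [mul_assoc, hT'T'])
    have hzi : z ∈ isom f := (hsu (by
      rw [hz, hp]; exact pow_mem (mul_mem Ge.mem Gv.mem) m)).1
    obtain ⟨y, c, hy0, hyy, hc0, hzc⟩ := exists_ut_of_invol hf h3 hzi hz2 hz1
    rw [hzc] at hc1 hc2
    obtain ⟨r, hr⟩ := prop_of_commute hf h3 hyy Ge.iso Ge.ne hc0 one_ne_zero hc1
    obtain ⟨r', hr'⟩ := prop_of_commute hf h3 hyy Gv.iso Gv.ne hc0 one_ne_zero hc2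
    have hr'0 : r' ≠ 0 := fun h => hy0 (by rw [hr', h, zero_smul])
    have hve : v = (r'⁻¹ * r) • emb e := by
      rw [← smul_smul, ← hr, hr', smul_smul, inv_mul_cancel₀ hr'0, one_smul]
    have : T' = T := Good.eq_of_prop hf h3 Gv.mem Gv.ne Ge hve
    have hp1 : p = 1 := by rw [hp, this, hTT]
    rw [hp1, orderOf_one] at hm
    omega
  obtain ⟨N, hN, hNodd, hNcomm⟩ := ZStar.zStar hto hiso
  let NL := N.map L.subtype
  have hNodd' : Odd (Nat.card NL) := by
    rwa [Subgroup.card_map_of_injective L.subtype_injective]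
  have hNL : NL ≤ L := by rintro _ ⟨x, -, rfl⟩; exact x.2
  have hNnorm : ∀ l ∈ L, ∀ x ∈ NL, l * x * l⁻¹ ∈ NL := by
    rintro l hl _ ⟨x, hx, rfl⟩
    exact ⟨_, hN.conj_mem x hx ⟨l, hl⟩, rfl⟩
  have hNsolv : Group.IsSolvable NL := PF14.feitThompson _ hNodd'
  have hfde : f (emb d) (emb e) = 1 := by rw [D.f_emb, hde]; rfl
  -- a minimal non-scalar normal subgroup
  let S : Set (Subgroup (GL ι F)) :=
    {A | A ≤ NL ∧ (∀ l ∈ L, ∀ x ∈ A, l * x * l⁻¹ ∈ A) ∧ ¬ ∀ x ∈ A, IsScal x}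
  have hNS : NL ∈ S := by
    refine ⟨le_rfl, hNnorm, fun hall => ?_⟩
    have hmem : T * ut f (emb d) 1 * T⁻¹ * (ut f (emb d) 1)⁻¹ ∈ NL :=
      ⟨_, hNcomm ⟨_, Gd.mem⟩, rfl⟩
    set v := ap (ut f (emb d) 1) (emb e) with hv
    have Gv : Good σ f L v := Ge.map hf h3 hsu Gd.mem
    have e1 : T * ut f (emb d) 1 * T⁻¹ * (ut f (emb d) 1)⁻¹ = T * ut f v 1 := by
      rw [ut_one_inv hf h3 Ge.iso, hv, ← ut_conj hf Ge.iso 1 (hsu Gd.mem).1]
      simp [mul_assoc, hT]
    rw [e1] at hmem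
    refine pair_not_scal hf h3 Ge.iso Gv.iso ?_ one_ne_zero one_ne_zero (hall _ hmem)
    rw [hv, ap, ut_mulVec hf Gd.iso, hadd_right hf, Ge.iso, zero_add, hsmul_right hf,
      hf.herm (emb e) (emb d), hfde]
    simp
  obtain ⟨A, ⟨hAN, hAnorm, hAns⟩, hmin⟩ := wellFounded_lt.has_min S ⟨NL, hNS⟩
  have hAL : A ≤ L := hAN.trans hNL
  have hcommA : ∀ x ∈ A, ∀ y ∈ A, IsScal (x * y * x⁻¹ * y⁻¹) := by
    intro x hx y hy
    by_contra hns
    have hle : ⁅A, A⁆ ≤ A := Subgroup.commutator_le.2 fun a ha b hb => by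
      rw [commutatorElement_def]
      exact mul_mem (mul_mem (mul_mem ha hb) (inv_mem ha)) (inv_mem hb)
    refine hmin ⁅A, A⁆ ⟨hle.trans hAN, fun l hl z hz => ?_, fun hall => hns (by
      rw [← commutatorElement_def]; exact hall _ (Subgroup.commutator_mem_commutator hx hy))⟩ ?_
    · have hm : A.map (MulAut.conj l).toMonoidHom ≤ A := by
        rintro _ ⟨a, ha, rfl⟩
        exact hAnorm l hl a ha
      have hz' : (MulAut.conj l).toMonoidHom z ∈ ⁅A, A⁆.map (MulAut.conj l).toMonoidHom :=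
        Subgroup.mem_map_of_mem _ hz
      rw [Subgroup.map_commutator] at hz'
      exact Subgroup.commutator_mono hm hm hz'
    · have hA' : A.subgroupOf NL ≠ ⊥ := fun h => by
        rw [Subgroup.subgroupOf_eq_bot, disjoint_iff, inf_eq_left.2 hAN] at h
        exact hAns fun z hz => ⟨1, fun v => by
          have hz' : z ∈ (⊥ : Subgroup (GL ι F)) := h ▸ hz
          rw [Subgroup.mem_bot.1 hz', ap_one, one_smul]⟩
      have hlt := Group.IsSolvable.commutator_lt_of_ne_bot hA'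
      rw [← Subgroup.map_subtype_lt_map_subtype, Subgroup.map_commutator,
        Subgroup.map_subgroupOf_eq_of_le hAN] at hlt
      exact hlt
  have hrel : ∀ x ∈ A, ∀ y ∈ A, ∃ r : F, r ^ 3 = 1 ∧ Rel r x y := fun x hx y hy => by
    obtain ⟨r, hr⟩ := hcommA x hx y hy
    exact ⟨r, scal_cube hf h3 (hsu (mul_mem (mul_mem (mul_mem (hAL hx) (hAL hy))
      (inv_mem (hAL hx))) (inv_mem (hAL hy)))) hr, rel_of_scal_comm hr⟩
  -- commutators with good transvections
  have hpair : ∀ {v}, Good σ f L v → ∀ x ∈ A,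
      x⁻¹ * ut f v 1 * x * ut f v 1 ∈ A ∧ (Commute (ut f v 1) x ∨
        f (ap x⁻¹ v) v ≠ 0 ∧ x⁻¹ * ut f v 1 * x * ut f v 1 = ut f (ap x⁻¹ v) 1 * ut f v 1) := by
    intro v hv x hx
    refine ⟨?_, ?_⟩
    · have := mul_mem (inv_mem hx) (hAnorm _ hv.mem x hx)
      rwa [ut_one_inv hf h3 hv.iso, ← mul_assoc, ← mul_assoc] at this
    have hxi : x⁻¹ ∈ L := inv_mem (hAL hx)
    have Gx := hv.map hf h3 hsu hxi
    have e1 : x⁻¹ * ut f v 1 * x = ut f (ap x⁻¹ v) 1 := by
      rw [← ut_conj hf hv.iso 1 (hsu hxi).1, inv_inv]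
    by_cases h0 : f (ap x⁻¹ v) v = 0
    · left
      obtain ⟨r, hr⟩ := prop_of_orth hf h3 Gx.iso hv.iso hv.ne h0
      have h1 := Good.eq_of_prop hf h3 Gx.mem Gx.ne hv hr
      rw [← e1, mul_assoc, inv_mul_eq_iff_eq_mul] at h1
      exact h1
    · exact Or.inr ⟨h0, by rw [e1]⟩
  -- the first pair
  obtain ⟨e', he'0, he'e', a, ha, hna⟩ : ∃ e' : ι → F₀, e' ≠ 0 ∧ D.f₀ e' e' = 0 ∧
      ∃ a ∈ A, ¬ Commute (ut f (emb e') 1) a := by
    by_contra hc
    push Not at hc
    refine hAns fun x hx => ?_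
    have heig : ∀ q : ι → F₀, q ≠ 0 → D.f₀ q q = 0 → ∃ r : F, ap x (emb q) = r • emb q := by
      intro q hq0 hqq
      have Gq := hgood q hq0 hqq
      have h1 := (hc q hq0 hqq x hx).eq
      have hxi := (hsu (hAL hx)).1
      refine prop_of_commute hf h3 ((mem_isom.1 hxi _ _).trans Gq.iso) Gq.iso Gq.ne
        (c := 1) (c' := 1) one_ne_zero one_ne_zero ?_
      rw [← ut_conj hf Gq.iso 1 hxi, ← h1, mul_inv_cancel_right]
    obtain ⟨α, hα⟩ := heig e he0 hee
    obtain ⟨β, hβ⟩ := heig d hd0 hdd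
    obtain ⟨ν, hν⟩ := heig g hg0 hgg
    have hxi := mem_isom.1 (hsu (hAL hx)).1
    have hα0 : α ≠ 0 := fun h => mulVec_ne_zero x Ge.ne (by rw [show _ *ᵥ _ = _ from hα, h, zero_smul])
    have hβ0 : β ≠ 0 := fun h => mulVec_ne_zero x Gd.ne (by rw [show _ *ᵥ _ = _ from hβ, h, zero_smul])
    have fwe : f (emb w) (emb e) = 0 := D.f_emb_zero hwe
    have fwd : f (emb w) (emb d) = 0 := D.f_emb_zero hwd
    have hw0 : emb w ≠ 0 := fun h => hww (by
      rw [emb_injective (h.trans emb_zero.symm), hzero_left D.hf₀])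
    have hxw1 : f (ap x (emb w)) (emb e) = 0 := by
      have h1 := hxi (emb w) (emb e)
      rw [show _ *ᵥ emb e = _ from hα, hsmul_right hf, fwe] at h1
      exact (mul_eq_zero.1 h1).resolve_left ((map_ne_zero σ).2 hα0)
    have hxw2 : f (ap x (emb w)) (emb d) = 0 := by
      have h1 := hxi (emb w) (emb d)
      rw [show _ *ᵥ emb d = _ from hβ, hsmul_right hf, fwd] at h1
      exact (mul_eq_zero.1 h1).resolve_left ((map_ne_zero σ).2 hβ0)
    obtain ⟨ρ, hρ⟩ := pole_unique hf h3 Gd.iso Ge.iso (by rw [hfde]; exact one_ne_zero) hw0 fwd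
      fwe hxw2 hxw1
    have hz : ρ • emb w + (τ : F) • α • emb e + β • emb d =
        ν • (emb w + (τ : F) • emb e + emb d) := by
      rw [hg, emb_add, emb_add, emb_smul] at hν
      rw [← hν, ap, mulVec_add, mulVec_add, mulVec_smul, ← ap, ← ap, ← ap, hρ, hα, hβ]
    have fed : f (emb e) (emb d) = 1 := by rw [D.f_emb, hed]; rfl
    have fww : f (emb w) (emb w) ≠ 0 := by
      rw [D.f_emb]; exact fun h => hww (Subtype.ext h)
    have h1 := congrArg (fun z => f z (emb e)) hz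
    have h2 := congrArg (fun z => f z (emb d)) hz
    have h3' := congrArg (fun z => f z (emb w)) hz
    simp only [hf.add_left, hf.smul_left, Ge.iso, Gd.iso, hfde, fed, fwe, fwd,
      hswap_zero hf fwe, hswap_zero hf fwd, mul_zero, mul_one, zero_add, add_zero] at h1 h2 h3'
    have hτ0 : (τ : F) ≠ 0 := fun h => hww (by
      have h' : τ = 0 := Subtype.ext h
      rw [h', map_zero, add_zero] at hτ
      exact neg_eq_zero.1 hτ.symm)
    have hρν : ρ = ν := mul_right_cancel₀ fww h3'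
    have hαν : α = ν := mul_left_cancel₀ hτ0 (by linear_combination h2)
    refine ⟨ν, fun y => ?_⟩
    have hrat : ∀ q : ι → F₀, ap x (emb q) = ν • emb q := fun q => by
      rw [hdec q, emb_add, emb_add, emb_smul, emb_smul, emb_smul, ap, mulVec_add, mulVec_add,
        mulVec_smul, mulVec_smul, mulVec_smul, ← ap, ← ap, ← ap, hρ, hα, hβ, hρν, hαν, h1]
      module
    rw [pi_eq_sum_univ' y, ap, mulVec_sum, Finset.smul_sum]
    refine Finset.sum_congr rfl fun i _ => ?_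
    have he : emb (Pi.single i (1 : F₀)) = Pi.single i (1 : F) := funext fun l => by
      show ((Pi.single i (1 : F₀) : ι → F₀) l : F) = _
      rw [Pi.single_apply, Pi.single_apply]
      split_ifs <;> rfl
    rw [mulVec_smul, ← he, ← ap, hrat, smul_comm]
  set t := ut f (emb e') 1 with ht
  have Gt := hgood e' he'0 he'e'
  obtain ⟨hvt, hp⟩ := (hpair Gt a ha).2.resolve_left hna
  set v := ap a⁻¹ (emb e') with hv
  set a₁ := a⁻¹ * t * a * t with ha₁'
  have ha₁ : a₁ ∈ A := (hpair Gt a ha).1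
  have Gv : Good σ f L v := Gt.map hf h3 hsu (inv_mem (hAL ha))
  obtain ⟨p₀, hp₀, hp₀v, hp₀e⟩ := exists_pole hf h3 (v := v) (e := emb e')
  have ha₁p : ap a₁ p₀ = p₀ := by
    rw [hp]; exact (fix_pair hf h3 Gv.iso Gt.iso hvt one_ne_zero one_ne_zero p₀).2 ⟨hp₀v, hp₀e⟩
  -- a rational unipotent element moving the pole
  obtain ⟨d', hd'e, hd'd', -⟩ := exists_dual_iso D.hf₀ (⊥ : Submodule F₀ (ι → F₀)) (a := e')
    (by simpa using he'0) (by simp; omega)
  obtain ⟨z, hz0, hzd, hze⟩ := exists_pole D.hf₀ h3 (v := d') (e := e')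
  have fd'e : f (emb d') (emb e') = 1 := by rw [D.f_emb, hd'e]; rfl
  have hzz : D.f₀ z z ≠ 0 := fun h0 => by
    obtain ⟨r, hr⟩ := prop_of_orth D.hf₀ h3 h0 he'e' he'0 hze
    rw [hr, D.hf₀.smul_left, D.hf₀.herm e', hd'e, map_one, mul_one] at hzd
    exact hz0 (by rw [hr, hzd, zero_smul])
  obtain ⟨b, hb⟩ := exists_trace D.hf₀ (r := -(D.f₀ z z)) (by rw [map_neg, ← D.hf₀.herm])
  set k := qe f (emb e') (emb z) (b : F) with hk
  have hkL : k ∈ L := D.qe_mem he'e' hze hb
  set B := k * a₁ * k⁻¹ with hB'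
  have hB : B ∈ A := hAnorm k hkL a₁ ha₁
  have hp₀z : f p₀ (emb z) ≠ 0 := by
    intro h0
    set q := p₀ - f p₀ (emb d') • emb e' with hq
    have fe'd : f (emb e') (emb d') = 1 := by rw [hf.herm, fd'e, map_one]
    have fze : f (emb z) (emb e') = 0 := D.f_emb_zero hze
    have fzd : f (emb z) (emb d') = 0 := D.f_emb_zero hzd
    have hqe : f q (emb e') = 0 := by rw [hq, hsub_left hf, hf.smul_left, Gt.iso, hp₀e]; ring
    have hqd : f q (emb d') = 0 := by rw [hq, hsub_left hf, hf.smul_left, fe'd]; ring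
    obtain ⟨r, hr⟩ := pole_unique hf h3 (D.f_emb_zero hd'd') Gt.iso
      (by rw [fd'e]; exact one_ne_zero) (fun h => hz0 (emb_injective (h.trans emb_zero.symm)))
      fzd fze hqd hqe
    have h1 : f q (emb z) = 0 := by
      rw [hq, hsub_left hf, hf.smul_left, hswap_zero hf fze, h0]; ring
    rw [hr, hf.smul_left, D.f_emb] at h1
    have hr0 : r = 0 := (mul_eq_zero.1 h1).resolve_right fun h => hzz (Subtype.ext h)
    rw [hr0, zero_smul, hq, sub_eq_zero] at hr
    rw [hr, hf.smul_left] at hp₀v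
    rcases mul_eq_zero.1 hp₀v with h | h
    · exact hp₀ (by rw [hr, h, zero_smul])
    · exact hvt (hswap_zero hf h)
  obtain ⟨γ, hγ0, hkp⟩ : ∃ γ : F, γ ≠ 0 ∧ ap k p₀ = p₀ - γ • emb e' := by
    refine ⟨f p₀ (emb z), hp₀z, ?_⟩
    rw [hk, ap, qe_mulVec hf Gt.iso (D.f_emb_zero hze), hp₀e]
    module
  obtain ⟨ζ, hζ3, hζ⟩ := hrel a₁ ha₁ B hB
  have hζ1 : ζ ≠ 1 := by
    intro h1
    have hB1 : ap B (ap k p₀) = ap k p₀ := by
      rw [hB', ap_mul, ap_mul, ← ap_mul k⁻¹, inv_mul_cancel, ap_one, ha₁p]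
    have h2 := hζ (ap k p₀)
    rw [h1, one_smul, hB1] at h2
    have h4 : ap a₁ (ap k⁻¹ (ap a₁ (ap k p₀))) = ap k⁻¹ (ap a₁ (ap k p₀)) := by
      have := congrArg (ap k⁻¹) h2.symm
      rw [hB', ← ap_mul, ← mul_assoc, ← mul_assoc, inv_mul_cancel, one_mul, ap_mul] at this
      exact this
    rw [hp, fix_pair hf h3 Gv.iso Gt.iso hvt one_ne_zero one_ne_zero] at h4
    obtain ⟨r, hr⟩ := pole_unique hf h3 Gv.iso Gt.iso hvt hp₀ hp₀v hp₀e h4.1 h4.2
    rw [← hp] at hr
    have h5 := congrArg (ap k) hr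
    rw [← ap_mul, mul_inv_cancel, ap_one, ap_smul, hkp] at h5
    simp only [ap, mulVec_sub, mulVec_smul] at h5
    rw [show _ *ᵥ p₀ = _ from ha₁p] at h5
    have hmid : f (ap a₁ (emb e')) p₀ = 0 := by
      have := mem_isom.1 (hsu (hAL ha₁)).1 (emb e') p₀
      rwa [show _ *ᵥ p₀ = _ from ha₁p, hswap_zero hf hp₀e] at this
    have hpp : f p₀ p₀ ≠ 0 := fun h0 => by
      obtain ⟨s, hs⟩ := prop_of_orth hf h3 h0 Gt.iso Gt.ne hp₀e
      rw [hs, hf.smul_left] at hp₀v
      rcases mul_eq_zero.1 hp₀v with h | h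
      · exact hp₀ (by rw [hs, h, zero_smul])
      · exact hvt (hswap_zero hf h)
    have h6 := congrArg (fun y => f y p₀) h5
    simp only [hsub_left hf, hf.smul_left, hswap_zero hf hp₀e, mul_zero, sub_zero] at h6
    rw [show f (_ *ᵥ emb e') p₀ = _ from hmid, mul_zero, sub_zero] at h6
    have hr1 : r = 1 := (mul_left_eq_self₀.1 h6.symm).resolve_right hpp
    rw [hr1, one_smul, sub_right_inj] at h5
    have h7 : ap a₁ (emb e') = emb e' := smul_right_injective _ hγ0 h5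
    rw [hp, fix_pair hf h3 Gv.iso Gt.iso hvt one_ne_zero one_ne_zero] at h7
    exact hvt (hswap_zero hf h7.1)
  -- good transvections invert modulo scalars
  have hcent : ∀ {y}, Good σ f L y → ∀ x ∈ A, Commute (ut f y 1) x → IsScal x := by
    intro y Gy x hx hcx
    obtain ⟨a', ha', hna'⟩ : ∃ a' ∈ A, ¬ Commute (ut f y 1) a' := by
      by_contra hc
      push Not at hc
      have heig : ∀ x ∈ A, ∃ r : F, ap x y = r • y := fun x hx => by
        have hxi := (hsu (hAL hx)).1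
        refine prop_of_commute hf h3 ((mem_isom.1 hxi _ _).trans Gy.iso) Gy.iso Gy.ne
          (c := 1) (c' := 1) one_ne_zero one_ne_zero ?_
        rw [← ut_conj hf Gy.iso 1 hxi, ← (hc x hx).eq, mul_inv_cancel_right]
      obtain ⟨α, hα⟩ := heig a₁ ha₁
      obtain ⟨β, hβ⟩ := heig B hB
      have h1 := hζ y
      rw [hβ, hα, ap_smul, ap_smul, hα, hβ, smul_smul, smul_smul, smul_smul] at h1
      have h2 := smul_left_injective F Gy.ne h1
      have hne : β * α ≠ 0 := mul_ne_zero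
        (fun h => mulVec_ne_zero B Gy.ne (by rw [show _ *ᵥ _ = _ from hβ, h, zero_smul]))
        (fun h => mulVec_ne_zero a₁ Gy.ne (by rw [show _ *ᵥ _ = _ from hα, h, zero_smul]))
      exact hζ1 (mul_right_cancel₀ hne (by linear_combination -h2))
    obtain ⟨hvy, hp'⟩ := (hpair Gy a' ha').2.resolve_left hna'
    have Gv' : Good σ f L (ap a'⁻¹ y) := Gy.map hf h3 hsu (inv_mem (hAL ha'))
    set a₂ := a'⁻¹ * ut f y 1 * a' * ut f y 1 with ha₂'
    have ha₂ : a₂ ∈ A := (hpair Gy a' ha').1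
    obtain ⟨p₂, hp₂, hp₂v, hp₂e⟩ := exists_pole hf h3 (v := ap a'⁻¹ y) (e := y)
    have ha₂p : ap a₂ p₂ = p₂ := by
      rw [hp']; exact (fix_pair hf h3 Gv'.iso Gy.iso hvy one_ne_zero one_ne_zero p₂).2 ⟨hp₂v, hp₂e⟩
    obtain ⟨B', hB'A, ζ', hζ'3, hζ', hζ'1⟩ : ∃ B' ∈ A, ∃ ζ' : F, ζ' ^ 3 = 1 ∧ Rel ζ' a₂ B' ∧
        ζ' ≠ 1 := by
      obtain ⟨r₁, hr₁, hR₁⟩ := hrel a₂ ha₂ a₁ ha₁
      obtain ⟨r₂, hr₂, hR₂⟩ := hrel a₂ ha₂ B hB
      by_cases h1 : r₁ = 1
      · by_cases h2 : r₂ = 1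
        · exfalso
          obtain ⟨s₁, hs₁, hS₁⟩ := hrel a₁ ha₁ a₂ ha₂
          obtain ⟨s₂, hs₂, hS₂⟩ := hrel B hB a₂ ha₂
          have hsw : ∀ {p q : GL ι F} {s : F}, Rel 1 p q → Rel s q p → s = 1 := by
            intro p q s hpq hqp
            have := hqp p₂
            rw [hpq p₂, one_smul] at this
            have hne : ap q (ap p p₂) ≠ 0 := mulVec_ne_zero q (mulVec_ne_zero p hp₂)
            exact smul_left_injective F hne (by simp only [one_smul]; exact this.symm)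
          rw [hsw (h1 ▸ hR₁) hS₁] at hS₁
          rw [hsw (h2 ▸ hR₂) hS₂] at hS₂
          obtain ⟨r, i, m, hi, hξ, hw1, hw2⟩ :=
            eq_word h3 hp₀ ha₁p hζ hζ3 hζ1 (one_pow 3) (one_pow 3) hS₁ hS₂
          have hi0 : i = 0 := by
            interval_cases i
            · rfl
            · exact absurd (by simpa using hξ.symm) hζ1
            · exact absurd (show ζ = 1 by linear_combination hζ3 + ζ * hξ) hζ1
          subst hi0
          simp only [pow_zero, one_mul, ap_one] at hw1 hw2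
          have hm : ζ ^ m = 1 := by
            have hr0 : r ≠ 0 := fun h => mulVec_ne_zero a₂ hp₀ (by
              rw [show _ *ᵥ _ = _ from hw1 p₀, h, zero_smul])
            have h5 := (hζ.pow_left m) p₀
            have h6 := hS₂ p₀
            rw [hw1, hw1, ap_smul, one_smul, smul_right_injective _ hr0 |>.eq_iff] at h6
            rw [h6] at h5
            have hne : ap (a₁ ^ m) (ap B p₀) ≠ 0 := mulVec_ne_zero _ (mulVec_ne_zero _ hp₀)
            exact smul_left_injective F hne (by simp only [one_smul]; exact h5.symm)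
          have : IsScal a₂ := ⟨r, hw2 hm⟩
          rw [hp'] at this
          exact pair_not_scal hf h3 Gv'.iso Gy.iso hvy one_ne_zero one_ne_zero this
        · exact ⟨B, hB, r₂, hr₂, hR₂, h2⟩
      · exact ⟨a₁, ha₁, r₁, hr₁, hR₁, h1⟩
    obtain ⟨ξ, hξ3, hξ⟩ := hrel a₂ ha₂ x hx
    obtain ⟨η, hη3, hη⟩ := hrel B' hB'A x hx
    set U := ut f y 1 with hU
    have hUU : U * U = 1 := ut_one_sq hf h3 Gy.iso
    have hinv : U * a₂ * U = a₂⁻¹ := by
      rw [eq_inv_iff_mul_eq_one, hp']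
      have hVV := ut_one_sq hf h3 Gv'.iso
      calc U * (ut f (ap a'⁻¹ y) 1 * U) * U * (ut f (ap a'⁻¹ y) 1 * U)
          = U * ut f (ap a'⁻¹ y) 1 * (U * U) * ut f (ap a'⁻¹ y) 1 * U := by
            simp only [mul_assoc]
        _ = 1 := by rw [hUU, mul_one, mul_assoc U, hVV, mul_one, hUU]
    have hξ1 : ξ = 1 := by
      have h4 : ∀ z, ap a₂⁻¹ (ap x z) = ξ • ap x (ap a₂⁻¹ z) := fun z => by
        rw [← hinv]
        simp only [ap_mul]
        rw [show ap U (ap x z) = ap x (ap U z) by rw [← ap_mul, hcx.eq, ap_mul], hξ, ap_smul,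
          ← ap_mul U x, hcx.eq, ap_mul]
      have h5 := h4 (ap a₂ p₂)
      rw [← ap_mul a₂⁻¹ a₂, inv_mul_cancel, ap_one] at h5
      have h6 := congrArg (ap a₂) h5
      rw [← ap_mul a₂ a₂⁻¹, mul_inv_cancel, ap_one, ap_smul, hξ p₂, smul_smul, ha₂p] at h6
      have hne : ap x p₂ ≠ 0 := mulVec_ne_zero x hp₂
      have h7 : ξ * ξ = 1 := smul_left_injective F hne (by simp only [one_smul]; exact h6.symm)
      exact CharTwo.sq_injective (show ξ ^ 2 = (1 : F) ^ 2 by rw [sq, h7, one_pow])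
    obtain ⟨r, i, m, hi, hξi, hw1, hw2⟩ :=
      eq_word h3 hp₂ ha₂p hζ' hζ'3 hζ'1 hξ3 hη3 hξ hη
    have hi0 : i = 0 := by
      rw [hξ1] at hξi
      interval_cases i
      · rfl
      · exact absurd (by simpa using hξi.symm) hζ'1
      · exact absurd (show ζ' = 1 by linear_combination hζ'3 + ζ' * hξi) hζ'1
    subst hi0
    simp only [pow_zero, one_mul, ap_one] at hw1 hw2
    refine ⟨r, hw2 ?_⟩
    have hr0 : r ≠ 0 := fun h => mulVec_ne_zero x hp₂ (by
      rw [show _ *ᵥ _ = _ from hw1 p₂, h, zero_smul])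
    have h8 : U * a₂ ^ m = a₂ ^ m * U := gl_ext fun z => by
      show ap _ z = ap _ z
      have := congrArg (fun q => ap q z) hcx.eq
      simp only [ap_mul, hw1, ap_smul] at this ⊢
      exact smul_right_injective _ hr0 this
    have hUinv : U⁻¹ = U := inv_eq_of_mul_eq_one_right hUU
    have h9 : a₂ ^ (2 * m) = 1 := by
      have h10 : (U * a₂ * U⁻¹) ^ m = U * a₂ ^ m * U⁻¹ := conj_pow
      rw [hUinv, hinv, h8, mul_assoc, hUU, mul_one, inv_pow] at h10
      rw [two_mul, pow_add]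
      nth_rw 1 [← h10]
      exact inv_mul_cancel _
    have h11 := (hζ'.pow_left (2 * m)) p₂
    rw [h9, ap_one, ap_one] at h11
    have h12 : ζ' ^ (2 * m) = 1 :=
      smul_left_injective F (mulVec_ne_zero B' hp₂) (by simp only [one_smul]; exact h11.symm)
    exact CharTwo.sq_injective
      (show (ζ' ^ m) ^ 2 = (1 : F) ^ 2 by rw [← pow_mul, mul_comm, h12, one_pow])
  have hinvA : ∀ {y}, Good σ f L y → ∀ x ∈ A, IsScal (ut f y 1 * x * ut f y 1 * x) := by
    intro y Gy x hx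
    set U := ut f y 1 with hU
    have hUi : U⁻¹ = U := ut_one_inv hf h3 Gy.iso
    have hUU : U * U = 1 := ut_one_sq hf h3 Gy.iso
    have hUx : U * x * U ∈ A := by
      have := hAnorm U Gy.mem x hx
      rwa [hUi] at this
    have hy : U * x * U * x ∈ A := mul_mem hUx hx
    refine hcent Gy _ hy ?_
    rcases (hpair Gy _ hy).2 with h | ⟨h, h'⟩
    · exact h
    · exfalso
      have hs : IsScal ((U * x * U * x)⁻¹ * U * (U * x * U * x) * U) := by
        have h1 := hcommA _ (inv_mem hx) _ (inv_mem hUx)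
        convert h1 using 1
        have e1 : (U * x * U * x)⁻¹ * U * (U * x * U * x) * U =
            x⁻¹ * (U * x * U)⁻¹ * (U * U) * x * U * x * U := by
          simp only [_root_.mul_inv_rev, mul_assoc]
        rw [e1, hUU, mul_one, inv_inv, inv_inv]
        simp only [mul_assoc]
      rw [h'] at hs
      exact pair_not_scal hf h3 (Gy.map hf h3 hsu (inv_mem (hAL hy))).iso Gy.iso h one_ne_zero
        one_ne_zero hs
  -- products of two good transvections centralise modulo scalars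
  have hprod : ∀ {y y'}, Good σ f L y → Good σ f L y' → ∀ x ∈ A,
      ∃ r : F, r ^ 3 = 1 ∧ Rel r x (ut f y 1 * ut f y' 1) := by
    intro y y' Gy Gy' x hx
    set U := ut f y 1 with hU
    set U' := ut f y' 1 with hU'
    have hUi : U⁻¹ = U := ut_one_inv hf h3 Gy.iso
    have hU'i : U'⁻¹ = U' := ut_one_inv hf h3 Gy'.iso
    have hUU : U * U = 1 := ut_one_sq hf h3 Gy.iso
    have hs : IsScal (x * (U * U') * x⁻¹ * (U * U')⁻¹) := by
      have h1 := ((hinvA Gy x hx).conj (k := U)).mul ((hinvA Gy' x hx).inv.conj (k := U))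
      convert h1 using 1
      have e1 : U * (U * x * U * x) * U⁻¹ * (U * (U' * x * U' * x)⁻¹ * U⁻¹) =
          (U * U) * x * U * x * (U⁻¹ * U) * x⁻¹ * U'⁻¹ * x⁻¹ * U'⁻¹ * U⁻¹ := by
        simp only [_root_.mul_inv_rev, mul_assoc]
      rw [e1, hUU, inv_mul_cancel, one_mul, mul_one, mul_inv_cancel_right, _root_.mul_inv_rev,
        hUi, hU'i]
      simp only [mul_assoc]
    obtain ⟨r, hr⟩ := hs
    exact ⟨r, scal_cube hf h3 (hsu (mul_mem (mul_mem (mul_mem (hAL hx) (mul_mem Gy.mem Gy'.mem))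
      (inv_mem (hAL hx))) (inv_mem (mul_mem Gy.mem Gy'.mem)))) hr, rel_of_scal_comm hr⟩
  -- commutators of such products are scalar
  let Cz : GL ι F → Prop := fun l => l ∈ L ∧ (∃ r : F, r ^ 3 = 1 ∧ Rel r a₁ l) ∧
    ∃ r : F, r ^ 3 = 1 ∧ Rel r B l
  have hcz : ∀ {l l'}, Cz l → Cz l' → ∃ r : F, r ^ 3 = 1 ∧ Rel r l l' := by
    rintro l l' ⟨hl, ⟨r, hr, hR⟩, ⟨s, hs, hS⟩⟩ ⟨hl', ⟨r', hr', hR'⟩, ⟨s', hs', hS'⟩⟩
    have hne : ∀ {q : F}, q ^ 3 = 1 → q ≠ 0 := fun h e => by rw [e] at h; simp at h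
    have hA1 : Rel 1 a₁ (l * l' * l⁻¹ * l'⁻¹) := by
      have := ((hR.mul_right hR').mul_right (hR.inv_right (hne hr))).mul_right
        (hR'.inv_right (hne hr'))
      rwa [show r * r' * r⁻¹ * r'⁻¹ = 1 by have := hne hr; have := hne hr'; field_simp] at this
    have hB1 : Rel 1 B (l * l' * l⁻¹ * l'⁻¹) := by
      have := ((hS.mul_right hS').mul_right (hS.inv_right (hne hs))).mul_right
        (hS'.inv_right (hne hs'))
      rwa [show s * s' * s⁻¹ * s'⁻¹ = 1 by have := hne hs; have := hne hs'; field_simp] at this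
    set c := l * l' * l⁻¹ * l'⁻¹ with hc
    obtain ⟨q, i, m, hi, hξ, hw1, hw2⟩ :=
      eq_word h3 hp₀ ha₁p hζ hζ3 hζ1 (one_pow 3) (one_pow 3) hA1 hB1
    have hi0 : i = 0 := by
      interval_cases i
      · rfl
      · exact absurd (by simpa using hξ.symm) hζ1
      · exact absurd (show ζ = 1 by linear_combination hζ3 + ζ * hξ) hζ1
    subst hi0
    simp only [pow_zero, one_mul, ap_one] at hw1 hw2
    have hq0 : q ≠ 0 := fun h => mulVec_ne_zero c hp₀ (by
      rw [show _ *ᵥ _ = _ from hw1 p₀, h, zero_smul])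
    have h5 := (hζ.pow_left m) p₀
    have h6 := hB1 p₀
    rw [hw1, hw1, ap_smul, one_smul, (smul_right_injective _ hq0).eq_iff] at h6
    rw [h6] at h5
    have hm : ζ ^ m = 1 := smul_left_injective F
      (mulVec_ne_zero _ (mulVec_ne_zero B hp₀))
      (by simp only [one_smul]; exact h5.symm)
    have hsc := hw2 hm
    exact ⟨q, scal_cube hf h3 (hsu (mul_mem (mul_mem (mul_mem hl hl') (inv_mem hl)) (inv_mem hl')))
      hsc, rel_of_scal_comm hsc⟩
  have hCz : ∀ {y y'}, Good σ f L y → Good σ f L y' → Cz (ut f y 1 * ut f y' 1) :=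
    fun Gy Gy' => ⟨mul_mem Gy.mem Gy'.mem, hprod Gy Gy' a₁ ha₁, hprod Gy Gy' B hB⟩
  -- two rational products generate everything
  set P₁ := T * ut f (emb d) 1 with hP₁
  set P₂ := T * ut f (emb g) 1 with hP₂
  obtain ⟨ξ, hξ3, hξ⟩ := hcz (hCz Ge Gd) (hCz Ge Gg)
  have fed : f (emb e) (emb d) = 1 := by rw [D.f_emb, hed]; rfl
  have fwe : f (emb w) (emb e) = 0 := D.f_emb_zero hwe
  have fwd : f (emb w) (emb d) = 0 := D.f_emb_zero hwd
  have hw0 : emb w ≠ 0 := fun h => hww (by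
    rw [emb_injective (h.trans emb_zero.symm), hzero_left D.hf₀])
  have hP₁w : ap P₁ (emb w) = emb w :=
    (fix_pair hf h3 Ge.iso Gd.iso (by rw [fed]; exact one_ne_zero) one_ne_zero one_ne_zero _).2
      ⟨fwe, fwd⟩
  have hξ1 : ξ ≠ 1 := by
    intro h1
    have h2 := hξ (emb w)
    rw [h1, one_smul, hP₁w,
      fix_pair hf h3 Ge.iso Gd.iso (by rw [fed]; exact one_ne_zero) one_ne_zero one_ne_zero] at h2
    obtain ⟨r, hr⟩ := pole_unique hf h3 Ge.iso Gd.iso (by rw [fed]; exact one_ne_zero) hw0 fwe fwd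
      h2.1 h2.2
    have h5 := congrArg (ap T) hr
    rw [← ap_mul, ← mul_assoc, hTT, one_mul, ap_smul] at h5
    simp only [hT, ap, ut_mulVec hf Gg.iso, ut_mulVec hf Ge.iso, fwe, mul_zero, zero_smul,
      add_zero] at h5
    have h6 := congrArg (fun z => f z (emb e)) h5
    have fge : f (emb g) (emb e) = 1 := by rw [D.f_emb, hge]; rfl
    simp only [hf.add_left, hf.smul_left, fwe, fge, mul_zero, mul_one, zero_add] at h6
    rw [one_mul, D.f_emb] at h6
    refine hww (Subtype.ext ?_)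
    have hwg : D.f₀ w g = D.f₀ w w := by
      simp [hg, hadd_right D.hf₀, hsmul_right D.hf₀, hwe, hwd]
    rw [hwg] at h6
    exact h6
  set u := ap h (emb e₀) with hu
  have Gu : Good σ f L u := (hgood e₀ he₀0 he₀).map hf h3 hsu hh
  obtain ⟨ξ₁, hx1, hX1⟩ := hcz (hCz Ge Gd) (hCz Ge Gu)
  obtain ⟨ξ₂, hx2, hX2⟩ := hcz (hCz Ge Gg) (hCz Ge Gu)
  obtain ⟨r, i, m, -, -, hword, -⟩ := eq_word h3 hw0 hP₁w hξ hξ3 hξ1 hx1 hx2 hX1 hX2
  -- the word is rational
  let Rat : GL ι F → Prop := fun q => ∀ x : ι → F₀, ∃ y : ι → F₀, ap q (emb x) = emb y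
  have hmul : ∀ {q q'}, Rat q → Rat q' → Rat (q * q') := fun {q q'} hq hq' x => by
    obtain ⟨y, hy⟩ := hq' x
    obtain ⟨z, hz⟩ := hq y
    exact ⟨z, by rw [ap_mul, hy, hz]⟩
  have hpow : ∀ {q}, Rat q → ∀ n : ℕ, Rat (q ^ n) := fun {q} hq n => by
    induction n with
    | zero => exact fun x => ⟨x, by rw [pow_zero, ap_one]⟩
    | succ n ih => rw [pow_succ]; exact hmul ih hq
  have hut : ∀ q : ι → F₀, D.f₀ q q = 0 → Rat (ut f (emb q) 1) := fun q hq x =>
    ⟨x + D.f₀ x q • q, by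
      rw [ap, ut_mulVec hf (D.f_emb_zero hq), one_mul, D.f_emb, emb_add, emb_smul]⟩
  have hR : Rat (T * (P₂ ^ i * P₁ ^ m)) :=
    hmul (hut e hee) (hmul (hpow (hmul (hut e hee) (hut g hgg)) i)
      (hpow (hmul (hut e hee) (hut d hdd)) m))
  set R := T * (P₂ ^ i * P₁ ^ m) with hRdef
  have huR : ∀ x, ap (ut f u 1) x = r • ap R x := fun x => by
    have := congrArg (ap T) (hword x)
    rw [← ap_mul, ← mul_assoc, hTT, one_mul, ap_smul, ← ap_mul] at this
    exact this
  have hrF : r ∈ F₀ := by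
    obtain ⟨y, hy⟩ := hR e
    obtain ⟨z, hz⟩ := hR y
    have h7 : ap (ut f u 1) (ap (ut f u 1) (emb e)) = emb e := by
      rw [← ap_mul, ut_one_sq hf h3 Gu.iso, ap_one]
    simp only [huR, ap_smul, smul_smul] at h7
    rw [hy, hz] at h7
    obtain ⟨i, hi⟩ := Function.ne_iff.1 he0
    have hi' : (e i : F) ≠ 0 := fun h => hi (Subtype.ext h)
    have h8 : r * r * (z i : F) = e i := congrFun h7 i
    have hz0 : (z i : F) ≠ 0 := fun h => hi' (by rw [← h8, h, mul_zero])
    have hr2 : r ^ 2 ∈ F₀ := by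
      rw [sq, show r * r = (e i : F) / z i by rw [eq_div_iff hz0]; exact h8]
      exact div_mem (e i).2 (z i).2
    obtain ⟨s, hs⟩ := (FiniteField.isSquare_of_char_two
      (ringChar.eq F₀ 2) ⟨_, hr2⟩ : IsSquare (⟨_, hr2⟩ : F₀))
    have hs' : r ^ 2 = (s : F) ^ 2 := by
      have := congrArg Subtype.val hs
      simpa [sq] using this
    rw [(CharTwo.sq_injective hs' : r = s)]
    exact s.2
  obtain ⟨x, y, hxy⟩ := hirr
  obtain ⟨x', hx'⟩ := hR x
  apply hxy
  have h9 : f (ap (ut f u 1) (emb x)) (emb y) ∈ F₀ := by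
    rw [huR, hx', hf.smul_left, D.f_emb]
    exact mul_mem hrF (SetLike.coe_mem _)
  rw [ap, ut_mulVec hf Gu.iso, hf.add_left, hf.smul_left, D.f_emb] at h9
  have := sub_mem h9 (D.f₀ x y).2
  rwa [add_sub_cancel_left] at this

end Cfsg.Agent.SU3Geo98.SubfieldOdd
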