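import Cfsg.Agent.MaxSub.SubfieldHerm.Main

/-!
An irrational vector of a three-dimensional space over a rational unitary structure is seen by a
rational isotropic vector (helper17).
-/

set_option autoImplicit false
set_option linter.unusedSectionVars false

namespace Cfsg.Agent.SU3Geo98.SubfieldOdd

open Matrix Cfsg.Agent.MaxSub Cfsg.Agent.MaxSub.SubfieldHerm Cfsg.Agent.HermStab
open scoped Classical

variable {ι : Type} [Fintype ι] [DecidableEq ι] {F : Type*} [Field F] [Finite F]
variable {σ : F ≃+* F} {f : (ι → F) → (ι → F) → F}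

/-- A hyperbolic frame of a three-dimensional unitary space. -/
theorem exists_frame (hf : Geo.IsUnitaryForm σ f) (h3 : Fintype.card ι = 3) :
    ∃ e d w : ι → F, f e e = 0 ∧ f d d = 0 ∧ f d e = 1 ∧ f w e = 0 ∧ f w d = 0 ∧ f w w ≠ 0 ∧
      ∀ x, x = f x d • e + f x e • d + (f x w / f w w) • w := by
  obtain ⟨e, he0, hee, -⟩ := exists_generic hf (⊥ : Submodule F (ι → F)) (by simp; omega)
  simp only [Submodule.mem_bot] at he0
  obtain ⟨d, hde, hdd, -⟩ := exists_dual_iso hf (⊥ : Submodule F (ι → F)) (a := e)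
    (by simpa using he0) (by simp; omega)
  have hed : f e d = 1 := by rw [hf.herm, hde, map_one]
  set U := Submodule.span F (Set.range ![e, d]) with hU
  have hU2 : Module.finrank F U = 2 := by
    rw [hU, finrank_span_eq_card]
    · simp
    rw [LinearIndependent.pair_iff]
    intro s t h
    have h1 := congrArg (fun z => f z e) h
    have h2 := congrArg (fun z => f z d) h
    simp only [hf.add_left, hf.smul_left, hee, hdd, hde, hed, hzero_left hf] at h1 h2
    exact ⟨by linear_combination h2, by linear_combination h1⟩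
  have hmem : ∀ x, f x e = 0 → f x d = 0 → x ∈ perp hf U := fun x h1 h2 => by
    rw [hU, mem_perp_span]
    rintro u ⟨i, rfl⟩
    fin_cases i
    · exact h1
    · exact h2
  have h1 : Module.finrank F (perp hf U) = 1 := by
    have := finrank_perp_add hf U
    omega
  obtain ⟨⟨w, hwU⟩, hw0, hspan⟩ := finrank_eq_one_iff'.1 h1
  have hwe : f w e = 0 := (mem_perp hf).1 hwU e (Submodule.subset_span ⟨0, rfl⟩)
  have hwd : f w d = 0 := (mem_perp hf).1 hwU d (Submodule.subset_span ⟨1, rfl⟩)
  have hdec : ∀ x, ∃ k : F, x = f x d • e + f x e • d + k • w := by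
    intro x
    have hy : x - f x d • e - f x e • d ∈ perp hf U := hmem _
      (by rw [hsub_left hf, hsub_left hf, hf.smul_left, hf.smul_left, hee, hde]; ring)
      (by rw [hsub_left hf, hsub_left hf, hf.smul_left, hf.smul_left, hdd, hed]; ring)
    obtain ⟨k, hk⟩ := hspan ⟨_, hy⟩
    have hk' : k • w = x - f x d • e - f x e • d := congrArg Subtype.val hk
    exact ⟨k, by rw [hk']; module⟩
  have hwe' := hswap_zero hf hwe
  have hwd' := hswap_zero hf hwd
  have hww : f w w ≠ 0 := by
    intro h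
    obtain ⟨x, hx⟩ := (hf.nondegenerate w fun e0 => hw0 (Subtype.ext e0)).1
    obtain ⟨k, hk⟩ := hdec x
    refine hx ?_
    rw [hk, hf.add_left, hf.add_left, hf.smul_left, hf.smul_left, hf.smul_left, hwe', hwd', h]
    ring
  refine ⟨e, d, w, hee, hdd, hde, hwe, hwd, hww, fun x => ?_⟩
  obtain ⟨k, hk⟩ := hdec x
  have : f x w = k * f w w := by
    conv_lhs => rw [hk]
    rw [hf.add_left, hf.add_left, hf.smul_left, hf.smul_left, hf.smul_left, hwe', hwd']
    ring
  rw [this, mul_div_cancel_right₀ _ hww]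
  exact hk

variable {F₀ : Subfield F} {L : Subgroup (GL ι F)}

/-- An irrational vector is seen irrationally by some rational isotropic vector. -/
theorem exists_iso_irr (D : Data σ f F₀ L) (h3 : Fintype.card ι = 3) {u : ι → F} {c : F}
    (hc : c ∈ F₀) (hirr : Irr f F₀ u c) :
    ∃ e : ι → F₀, D.f₀ e e = 0 ∧ f (emb e) u * f u (emb e) ∉ F₀ := by
  by_contra hall
  push Not at hall
  have hf := D.hf
  obtain ⟨e, d, w, hee, hdd, hde, hwe, hwd, hww, hdec⟩ := exists_frame D.hf₀ h3
  have hed : D.f₀ e d = 1 := by rw [D.hf₀.herm, hde, map_one]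
  obtain ⟨A, hA⟩ : ∃ A, A = f (emb e) u := ⟨_, rfl⟩
  obtain ⟨B, hB⟩ : ∃ B, B = f (emb d) u := ⟨_, rfl⟩
  obtain ⟨C, hC⟩ : ∃ C, C = f (emb w) u := ⟨_, rfl⟩
  have hu : ∀ x : ι → F₀, f u (emb x) = σ (f (emb x) u) := fun x => hf.herm _ _
  have hσF : ∀ x : F₀, σ (x : F) ∈ F₀ := fun x => D.σ₀_coe x ▸ SetLike.coe_mem _
  -- the values at isotropic vectors
  have hiso : ∀ a b t : F₀,
      D.f₀ (a • w + t • e + b • d) (a • w + t • e + b • d) = 0 →
      ((a : F) * C + t * A + b * B) * σ ((a : F) * C + t * A + b * B) ∈ F₀ := by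
    intro a b t h
    have h' := hall _ h
    rw [hu, emb_add, emb_add, emb_smul, emb_smul, emb_smul, hf.add_left, hf.add_left,
      hf.smul_left, hf.smul_left, hf.smul_left, ← hA, ← hB, ← hC] at h'
    exact h'
  have hNA : A * σ A ∈ F₀ := by simpa using hiso 0 0 1 (by simpa using hee)
  have hNB : B * σ B ∈ F₀ := by simpa using hiso 0 1 0 (by simpa using hdd)
  obtain ⟨s, hs0, hs⟩ := exists_skew D.hf₀
  have hσs : σ (s : F) = -s := by
    rw [← D.σ₀_coe, eq_neg_of_add_eq_zero_right hs]; rfl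
  have hs0' : (s : F) ≠ 0 := fun h => hs0 (Subtype.ext h)
  obtain ⟨l, hl⟩ : ∃ l : F₀, σ (l : F) ≠ l := by
    by_contra h
    push Not at h
    exact D.hf₀.ne_refl (RingEquiv.ext fun x => Subtype.ext ((D.σ₀_coe x).trans (h x)))
  -- the pencil
  have hτ : A * σ B - B * σ A ∈ F₀ := by
    have h := hiso 0 1 s (by
      simp [D.hf₀.add_left, hadd_right D.hf₀, D.hf₀.smul_left, hsmul_right D.hf₀, hee, hdd, hde,
        hed]
      linear_combination hs)
    have h1 := div_mem (sub_mem (sub_mem h (mul_mem (mul_mem s.2 (hσF s)) hNA)) hNB) s.2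
    convert h1 using 1
    simp only [ZeroMemClass.coe_zero, OneMemClass.coe_one, zero_mul, zero_add, one_mul, map_add,
      map_mul, hσs]
    field_simp
    ring
  have key : ∀ P Q : F, P * σ P ∈ F₀ → Q * σ Q ∈ F₀ → P * σ Q - Q * σ P ∈ F₀ →
      (∀ a t : F₀, t + D.σ₀ t = -(D.f₀ w w * a * D.σ₀ a) →
        ((a : F) * C + t * P + Q) * σ ((a : F) * C + t * P + Q) ∈ F₀) →
      C * σ P ∈ F₀ ∧ P * σ C ∈ F₀ := by
    intro P Q hP hQ hPQ h
    have hd : ∀ a : F₀, σ (a : F) * (P * σ C) - a * (C * σ P) ∈ F₀ := by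
      intro a
      obtain ⟨t, ht⟩ := exists_trace D.hf₀ (r := -(D.f₀ w w * a * D.σ₀ a)) (by
        rw [map_neg, map_mul, map_mul, D.hf₀.involutive, ← D.hf₀.herm]; ring)
      have h1 := h a t ht
      have h2 := h a (t + s) (by rw [map_add]; linear_combination ht + hs)
      have h3 := sub_mem (sub_mem h2 h1)
        (add_mem (mul_mem s.2 hPQ) (mul_mem (add_mem (add_mem (mul_mem s.2 (hσF t))
          (mul_mem t.2 (hσF s))) (mul_mem s.2 (hσF s))) hP))
      convert div_mem h3 s.2 using 1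
      simp only [AddMemClass.coe_add, map_add, map_mul, hσs]
      field_simp
      ring
    have h1 := hd 1
    simp only [OneMemClass.coe_one, map_one, one_mul] at h1
    have h2 : (σ (l : F) - l) * (C * σ P) ∈ F₀ := by
      convert sub_mem (hd l) (mul_mem (hσF l) h1) using 1
      ring
    have h3 : C * σ P ∈ F₀ := by
      have hne : σ (l : F) - l ≠ 0 := sub_ne_zero.2 hl
      have := div_mem h2 (sub_mem (hσF l) l.2)
      rwa [mul_div_cancel_left₀ _ hne] at this
    exact ⟨h3, by convert add_mem h1 h3 using 1; ring⟩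
  obtain ⟨hCA, hAC⟩ := key A B hNA hNB hτ fun a t ht => by
    simpa using hiso a 1 t (by
      simp [D.hf₀.add_left, hadd_right D.hf₀, D.hf₀.smul_left, hsmul_right D.hf₀, hee, hdd, hde,
        hed, hwe, hwd, hswap_zero D.hf₀ hwe, hswap_zero D.hf₀ hwd]
      linear_combination ht)
  obtain ⟨hCB, hBC⟩ := key B A hNB hNA (by convert neg_mem hτ using 1; ring) fun a t ht => by
    convert hiso a t 1 (by
      simp [D.hf₀.add_left, hadd_right D.hf₀, D.hf₀.smul_left, hsmul_right D.hf₀, hee, hdd, hde,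
        hed, hwe, hwd, hswap_zero D.hf₀ hwe, hswap_zero D.hf₀ hwd]
      linear_combination ht) using 1
    simp only [OneMemClass.coe_one, one_mul]
    ring
  have hww' : ((D.f₀ w w : F₀) : F) ≠ 0 := fun h => hww (Subtype.ext h)
  have hCτ : C * σ C - (D.f₀ w w : F) * (A * σ B) ∈ F₀ := by
    obtain ⟨t, ht⟩ := exists_trace D.hf₀ (r := -(D.f₀ w w)) (by rw [map_neg, ← D.hf₀.herm])
    have h := hiso 1 1 t (by
      simp [D.hf₀.add_left, hadd_right D.hf₀, D.hf₀.smul_left, hsmul_right D.hf₀, hee, hdd, hde,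
        hed, hwe, hwd, hswap_zero D.hf₀ hwe, hswap_zero D.hf₀ hwd]
      linear_combination ht)
    have ht' : (t : F) + σ t = -(D.f₀ w w : F) := by
      rw [← D.σ₀_coe]; exact congrArg Subtype.val ht
    have h1 := sub_mem h (add_mem (add_mem (add_mem (mul_mem (mul_mem t.2 (hσF t)) hNA) hNB)
      (add_mem (mul_mem (hσF t) hCA) (mul_mem t.2 hAC))) (add_mem hCB hBC))
    convert add_mem h1 (mul_mem (hσF t) hτ) using 1
    simp only [OneMemClass.coe_one, one_mul, map_add, map_mul]
    linear_combination (-(A * σ B)) * ht'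
  have hAB : A * σ B ∈ F₀ := by
    by_cases hC0 : C = 0
    · have h := neg_mem hCτ
      rw [hC0, zero_mul, zero_sub, neg_neg] at h
      have := div_mem h (D.f₀ w w).2
      rwa [mul_div_cancel_left₀ _ hww'] at this
    by_cases hA0 : A = 0
    · rw [hA0, zero_mul]; exact zero_mem _
    have hne : σ A ≠ 0 := (map_ne_zero σ).2 hA0
    have hne' : σ C ≠ 0 := (map_ne_zero σ).2 hC0
    have hNC : C * σ C ∈ F₀ := by
      convert div_mem (mul_mem hCA hAC) hNA using 1
      field_simp
    convert div_mem (mul_mem hAC hCB) hNC using 1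
    field_simp
  have hBA : B * σ A ∈ F₀ := by convert sub_mem hAB hτ using 1; ring
  have hNC : C * σ C ∈ F₀ := by
    convert add_mem hCτ (mul_mem (D.f₀ w w).2 hAB) using 1; ring
  -- every rational vector
  have hval : ∀ x : ι → F₀, ∃ a b k : F₀, f (emb x) u = (a : F) * A + b * B + k * C := fun x =>
    ⟨_, _, _, by
      conv_lhs => rw [hdec x]
      rw [emb_add, emb_add, emb_smul, emb_smul, emb_smul, hf.add_left, hf.add_left,
        hf.smul_left, hf.smul_left, hf.smul_left, ← hA, ← hB, ← hC]⟩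
  obtain ⟨x, y, hxy⟩ := hirr
  refine hxy ?_
  obtain ⟨a, b, k, hx⟩ := hval x
  obtain ⟨a', b', k', hy⟩ := hval y
  rw [mul_assoc, hu, hx, hy, map_add, map_add, map_mul, map_mul, map_mul]
  refine mul_mem hc ?_
  rw [show ((a : F) * A + b * B + k * C) * (σ (a' : F) * σ A + σ (b' : F) * σ B + σ (k' : F) * σ C) =
    a * σ (a' : F) * (A * σ A) + a * σ (b' : F) * (A * σ B) + a * σ (k' : F) * (A * σ C) +
    (b * σ (a' : F) * (B * σ A) + b * σ (b' : F) * (B * σ B) + b * σ (k' : F) * (B * σ C)) +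
    (k * σ (a' : F) * (C * σ A) + k * σ (b' : F) * (C * σ B) + k * σ (k' : F) * (C * σ C)) by ring]
  exact add_mem (add_mem
    (add_mem (add_mem (mul_mem (mul_mem a.2 (hσF a')) hNA) (mul_mem (mul_mem a.2 (hσF b')) hAB))
      (mul_mem (mul_mem a.2 (hσF k')) hAC))
    (add_mem (add_mem (mul_mem (mul_mem b.2 (hσF a')) hBA) (mul_mem (mul_mem b.2 (hσF b')) hNB))
      (mul_mem (mul_mem b.2 (hσF k')) hBC)))
    (add_mem (add_mem (mul_mem (mul_mem k.2 (hσF a')) hCA) (mul_mem (mul_mem k.2 (hσF b')) hCB))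
      (mul_mem (mul_mem k.2 (hσF k')) hNC))

end Cfsg.Agent.SU3Geo98.SubfieldOdd
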