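import Cfsg.Agent.SU3Geo98.SubfieldOdd.Trans

/-!
Three-dimensional Heisenberg pairs (helper17).
-/

set_option autoImplicit false
set_option linter.unusedSectionVars false

namespace Cfsg.Agent.SU3Geo98.SubfieldOdd

open Matrix Cfsg.Agent.MaxSub Cfsg.Agent.HermStab
open scoped Classical

variable {ι : Type} [Fintype ι] [DecidableEq ι] {F : Type*} [Field F]

/-- `a b = ζ b a`. -/
def Rel (ζ : F) (a b : GL ι F) : Prop := ∀ x, ap a (ap b x) = ζ • ap b (ap a x)

theorem Rel.mul_right {ζ η : F} {a b c : GL ι F} (h : Rel ζ a b) (h' : Rel η a c) :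
    Rel (ζ * η) a (b * c) := fun x => by
  rw [ap_mul, ap_mul, h (ap c x), h' x, ap_smul, smul_smul]

theorem Rel.inv_right {ζ : F} {a b : GL ι F} (h : Rel ζ a b) (hζ : ζ ≠ 0) :
    Rel ζ⁻¹ a b⁻¹ := fun x => by
  have h1 := h (ap b⁻¹ x)
  rw [← ap_mul b, mul_inv_cancel, ap_one] at h1
  rw [h1, ap_smul, ← ap_mul b⁻¹ b, inv_mul_cancel, ap_one, smul_smul, inv_mul_cancel₀ hζ,
    one_smul]

theorem rel_of_scal_comm {a b : GL ι F} {r : F} (h : ∀ x, ap (a * b * a⁻¹ * b⁻¹) x = r • x) :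
    Rel r a b := fun x => by
  have := h (ap b (ap a x))
  rw [← this, ← ap_mul, ← ap_mul, ← ap_mul]
  congr 1
  group

theorem Rel.pow_left {ζ : F} {a b : GL ι F} (h : Rel ζ a b) (k : ℕ) : Rel (ζ ^ k) (a ^ k) b := by
  induction k with
  | zero => intro x; simp [ap_one]
  | succ k ih =>
    intro x
    rw [pow_succ, ap_mul, ap_mul, h x, ap_smul, ih, smul_smul, pow_succ, mul_comm]

theorem Rel.pow_right {ζ : F} {a b : GL ι F} (h : Rel ζ a b) (k : ℕ) : Rel (ζ ^ k) a (b ^ k) := by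
  induction k with
  | zero => intro x; simp [ap_one]
  | succ k ih =>
    intro x
    rw [pow_succ, ap_mul, ap_mul, ih (ap b x), h x, ap_smul, smul_smul, pow_succ]

/-- The elements normalising a Heisenberg pair up to scalars. -/
theorem eq_word (h3 : Fintype.card ι = 3) {ζ : F} {a b : GL ι F} {w : ι → F} (hw : w ≠ 0)
    (haw : ap a w = w) (hrel : Rel ζ a b) (hζ3 : ζ ^ 3 = 1) (hζ1 : ζ ≠ 1) {l : GL ι F} {ξ η : F}
    (hξ : ξ ^ 3 = 1) (hη : η ^ 3 = 1) (hla : Rel ξ a l) (hlb : Rel η b l) :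
    ∃ (r : F) (i k : ℕ), i < 3 ∧ ξ = ζ ^ i ∧ (∀ x, ap l x = r • ap (b ^ i * a ^ k) x) ∧
      (ζ ^ k = 1 → ∀ x, ap l x = r • ap (b ^ i) x) := by
  have hz : 1 + ζ + ζ ^ 2 = 0 := by
    have : (ζ - 1) * (1 + ζ + ζ ^ 2) = 0 := by linear_combination hζ3
    exact (mul_eq_zero.1 this).resolve_left (sub_ne_zero.2 hζ1)
  have hζ0 : ζ ≠ 0 := fun h => by rw [h] at hζ3; simp at hζ3
  have hcube : ∀ t : F, t ^ 3 = 1 → ∃ i : Fin 3, t = ζ ^ (i : ℕ) := by
    intro t ht
    have : (t - 1) * ((t - ζ) * (t - ζ ^ 2)) = 0 := by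
      linear_combination ht - hζ3 + (t ^ 2 * -1 + ζ * t) * hz
    rcases mul_eq_zero.1 this with h | h
    · exact ⟨0, by simpa using sub_eq_zero.1 h⟩
    rcases mul_eq_zero.1 h with h | h
    · exact ⟨1, by simpa using sub_eq_zero.1 h⟩
    · exact ⟨2, by simpa using sub_eq_zero.1 h⟩
  let W : Fin 3 → ι → F := fun j => ap (b ^ (j : ℕ)) w
  have hW : ∀ j, ap a (W j) = ζ ^ (j : ℕ) • W j := fun j => by
    have := hrel.pow_right (j : ℕ) w
    rwa [haw] at this
  have hz2 : ζ ^ 2 ≠ 1 := fun h => hζ1 (by linear_combination hζ3 - ζ * h)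
  have hz12 : ζ ≠ ζ ^ 2 := fun h => hζ1 (mul_left_cancel₀ hζ0 (by linear_combination -h))
  have hev : ∀ j k : Fin 3, ζ ^ (j : ℕ) = ζ ^ (k : ℕ) → j = k := by
    intro j k h
    fin_cases j <;> fin_cases k <;>
      simp [hζ1, hz2, hz12, Ne.symm hζ1, Ne.symm hz2, Ne.symm hz12] at h ⊢
  have hW0 : ∀ j, W j ≠ 0 := fun j => mulVec_ne_zero _ hw
  have hli : LinearIndependent F W :=
    Module.End.eigenvectors_linearIndependent' (Matrix.mulVecLin (a : Matrix ι ι F))
      (fun j : Fin 3 => ζ ^ (j : ℕ)) (fun j k h => hev j k h) W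
      (fun j => ⟨Module.End.mem_eigenspace_iff.2 (hW j), hW0 j⟩)
  have htop : Submodule.span F (Set.range W) = ⊤ :=
    hli.span_eq_top_of_card_eq_finrank' (by simp [h3])
  have hdec : ∀ x, ∃ c : Fin 3 → F, x = ∑ j, c j • W j := fun x => by
    have : x ∈ Submodule.span F (Set.range W) := htop ▸ Submodule.mem_top
    obtain ⟨c, hc⟩ := Submodule.mem_span_range_iff_exists_fun F |>.1 this
    exact ⟨c, hc.symm⟩
  obtain ⟨i, hi⟩ := hcube ξ hξ
  obtain ⟨m, hm⟩ := hcube η⁻¹ (by rw [inv_pow, hη, inv_one])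
  obtain ⟨r, hr⟩ : ∃ r : F, ap l w = r • W i := by
    obtain ⟨c, hc⟩ := hdec (ap l w)
    have h1 : ap a (ap l w) = ξ • ap l w := by rw [hla w, haw]
    have h2 : ∑ j, (c j * (ζ ^ (j : ℕ) - ξ)) • W j = 0 := by
      have e1 : ap a (ap l w) = ∑ j, (c j * ζ ^ (j : ℕ)) • W j := by
        rw [hc]
        show Matrix.mulVecLin (a : Matrix ι ι F) _ = _
        rw [map_sum]
        exact Finset.sum_congr rfl fun j _ => by
          rw [map_smul, show Matrix.mulVecLin (a : Matrix ι ι F) (W j) = _ from hW j, smul_smul]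
      rw [e1] at h1
      simp only [mul_sub, sub_smul, Finset.sum_sub_distrib, h1]
      rw [hc, Finset.smul_sum]
      simp [smul_smul, mul_comm]
    have h4 := Fintype.linearIndependent_iff.1 hli _ h2
    refine ⟨c i, ?_⟩
    rw [hc]
    refine Finset.sum_eq_single i (fun j _ hj => ?_) (fun h => absurd (Finset.mem_univ i) h)
    rcases mul_eq_zero.1 (h4 j) with h | h
    · rw [h, zero_smul]
    · exact absurd (hev j i (by rw [← hi]; exact sub_eq_zero.1 h)) hj
  suffices h : ∀ x, ap l x = r • ap (b ^ (i : ℕ) * a ^ (m : ℕ)) x by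
    refine ⟨r, i, m, i.2, hi, h, fun hk x => ?_⟩
    have ham : ∀ j : Fin 3, ap (a ^ (m : ℕ)) (W j) = W j := fun j => by
      have := (hrel.pow_right (j : ℕ)).pow_left (m : ℕ) w
      have ha : ∀ n : ℕ, ap (a ^ n) w = w := fun n => by
        induction n with
        | zero => rw [pow_zero, ap_one]
        | succ n ih => rw [pow_succ, ap_mul, haw, ih]
      rw [ha, ← pow_mul, mul_comm, pow_mul, hk, one_pow, one_smul] at this
      exact this
    rw [h, ap_mul]
    congr 2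
    obtain ⟨c, rfl⟩ := hdec x
    simp only [ap, mulVec_sum, mulVec_smul]
    exact Finset.sum_congr rfl fun j _ => by rw [show _ *ᵥ W j = _ from ham j]
  intro x
  obtain ⟨c, rfl⟩ := hdec x
  have hη0 : η ≠ 0 := fun h => by rw [h] at hη; simp at hη
  have hl : ∀ j : Fin 3, ap l (W j) = r • ap (b ^ (i : ℕ) * a ^ (m : ℕ)) (W j) := by
    intro j
    have h1 := hlb.pow_left (j : ℕ) w
    rw [hr, ap_smul] at h1
    have h2 : ap l (W j) = (η⁻¹) ^ (j : ℕ) • r • ap (b ^ (j : ℕ)) (W i) := by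
      rw [h1, smul_smul, ← mul_pow, inv_mul_cancel₀ hη0, one_pow, one_smul]
    have h3' : ap (a ^ (m : ℕ)) (W j) = (ζ ^ (m : ℕ)) ^ (j : ℕ) • W j := by
      have := (hrel.pow_right (j : ℕ)).pow_left (m : ℕ) w
      have ha : ∀ n : ℕ, ap (a ^ n) w = w := fun n => by
        induction n with
        | zero => rw [pow_zero, ap_one]
        | succ n ih => rw [pow_succ, ap_mul, haw, ih]
      rw [ha] at this
      rw [this, ← pow_mul, ← pow_mul, mul_comm]
    rw [h2, ap_mul, h3', ap_smul, hm, smul_comm]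
    congr 2
    show ap (b ^ (j : ℕ)) (ap (b ^ (i : ℕ)) w) = ap (b ^ (i : ℕ)) (ap (b ^ (j : ℕ)) w)
    rw [← ap_mul, ← ap_mul, ← pow_add, ← pow_add, add_comm]
  simp only [ap, mulVec_sum, mulVec_smul]
  rw [Finset.smul_sum]
  exact Finset.sum_congr rfl fun j _ => by
    rw [show (l : Matrix ι ι F) *ᵥ W j = _ from hl j, smul_comm]

end Cfsg.Agent.SU3Geo98.SubfieldOdd
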