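import Cfsg.Agent.SU3Geo98.SubfieldOdd.Irr

/-!
Pairs of transvections of a three-dimensional unitary space in characteristic two (helper17).
-/

set_option autoImplicit false
set_option linter.unusedSectionVars false

namespace Cfsg.Agent.SU3Geo98.SubfieldOdd

open Matrix Cfsg.Agent.MaxSub Cfsg.Agent.MaxSub.SubfieldHerm Cfsg.Agent.HermStab
open scoped Classical

variable {ι : Type} [Fintype ι] [DecidableEq ι] {F : Type*} [Field F] [Finite F]
variable {σ : F ≃+* F} {f : (ι → F) → (ι → F) → F}

/-- The action of a matrix group element on a vector. -/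
abbrev ap (g : GL ι F) (v : ι → F) : ι → F := (g : Matrix ι ι F) *ᵥ v

/-- A scalar element. -/
def IsScal (g : GL ι F) : Prop := ∃ r : F, ∀ x, ap g x = r • x

omit [Finite F] in
theorem ap_mul (g h : GL ι F) (v : ι → F) : ap (g * h) v = ap g (ap h v) := by
  rw [ap, ap, ap, Units.val_mul, mulVec_mulVec]

omit [Finite F] in
theorem ap_one (v : ι → F) : ap (1 : GL ι F) v = v := by rw [ap, Units.val_one, one_mulVec]

omit [Finite F] in
theorem ap_smul (g : GL ι F) (c : F) (v : ι → F) : ap g (c • v) = c • ap g v := mulVec_smul _ _ _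

variable (hf : Geo.IsUnitaryForm σ f) (h3 : Fintype.card ι = 3)
include hf h3

/-- Orthogonal isotropic points coincide. -/
theorem prop_of_orth {v e : ι → F} (hvv : f v v = 0) (hee : f e e = 0) (he : e ≠ 0)
    (hve : f v e = 0) : ∃ r : F, v = r • e := by
  by_contra h
  push Not at h
  set U := Submodule.span F (Set.range ![e, v]) with hU
  have hU2 : Module.finrank F U = 2 := by
    rw [hU, finrank_span_eq_card]
    · simp
    rw [LinearIndependent.pair_iff' he]
    exact fun r hr => h r hr.symm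
  have hle : U ≤ perp hf U := by
    rw [hU, Submodule.span_le]
    rintro x ⟨i, rfl⟩
    rw [SetLike.mem_coe, mem_perp_span]
    rintro y ⟨j, rfl⟩
    fin_cases i <;> fin_cases j
    · exact hee
    · exact hswap_zero hf hve
    · exact hve
    · exact hvv
  have h1 := Submodule.finrank_mono hle
  have h2 := finrank_perp_add hf U
  omega

/-- A vector orthogonal to two non-orthogonal isotropic points. -/
theorem exists_pole {v e : ι → F} :
    ∃ w : ι → F, w ≠ 0 ∧ f w v = 0 ∧ f w e = 0 := by
  set U := Submodule.span F (Set.range ![e, v]) with hU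
  have h2 := finrank_perp_add hf U
  have h1 : Module.finrank F U ≤ 2 := by
    exact (finrank_range_le_card (R := F) ![e, v]).trans (by simp)
  have hne : perp hf U ≠ ⊥ := fun h => by rw [h, finrank_bot] at h2; omega
  obtain ⟨w, hw, hw0⟩ := Submodule.exists_mem_ne_zero_of_ne_bot hne
  exact ⟨w, hw0, (mem_perp hf).1 hw v (Submodule.subset_span ⟨1, rfl⟩),
    (mem_perp hf).1 hw e (Submodule.subset_span ⟨0, rfl⟩)⟩

/-- The pole of two non-orthogonal isotropic points is unique. -/
theorem pole_unique {v e w x : ι → F} (hvv : f v v = 0) (hee : f e e = 0) (hve : f v e ≠ 0)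
    (hw : w ≠ 0) (hwv : f w v = 0) (hwe : f w e = 0) (hxv : f x v = 0) (hxe : f x e = 0) :
    ∃ r : F, x = r • w := by
  set U := Submodule.span F (Set.range ![e, v]) with hU
  have hU2 : Module.finrank F U = 2 := by
    rw [hU, finrank_span_eq_card]
    · simp
    rw [LinearIndependent.pair_iff]
    intro s t h
    have h1 := congrArg (fun z => f z e) h
    have h2 := congrArg (fun z => f z v) h
    simp only [hf.add_left, hf.smul_left, hee, hvv, mul_zero, zero_add, add_zero,
      hzero_left hf] at h1 h2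
    have hev : f e v ≠ 0 := hswap_ne_zero hf hve
    exact ⟨(mul_eq_zero.1 h2).resolve_right hev, (mul_eq_zero.1 h1).resolve_right hve⟩
  have hmem : ∀ y, f y v = 0 → f y e = 0 → y ∈ perp hf U := fun y h1 h2 => by
    rw [hU, mem_perp_span]
    rintro u ⟨i, rfl⟩
    fin_cases i
    · exact h2
    · exact h1
  have h1 : Module.finrank F (perp hf U) = 1 := by
    have := finrank_perp_add hf U
    omega
  obtain ⟨r, hr⟩ := (finrank_eq_one_iff_of_nonzero' (⟨w, hmem w hwv hwe⟩ : perp hf U)
    (fun h => hw (congrArg Subtype.val h))).1 h1 ⟨x, hmem x hxv hxe⟩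
  exact ⟨r, (congrArg Subtype.val hr).symm⟩

/-- The fixed space of a product of two transvections with non-orthogonal centres. -/
theorem fix_pair {v e : ι → F} (hvv : f v v = 0) (hee : f e e = 0) (hve : f v e ≠ 0)
    {c c' : F} (hc : c ≠ 0) (hc' : c' ≠ 0) (x : ι → F) :
    ap (ut f v c * ut f e c') x = x ↔ f x v = 0 ∧ f x e = 0 := by
  rw [ap_mul, ap, ap, ut_mulVec hf hee, ut_mulVec hf hvv]
  refine ⟨fun h => ?_, fun ⟨h1, h2⟩ => by simp [h1, h2]⟩
  have h' : (c' * f x e) • e + (c * f (x + (c' * f x e) • e) v) • v = 0 := by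
    rw [add_assoc] at h
    exact add_eq_left.1 h
  have h1 := congrArg (fun z => f z v) h'
  have h2 := congrArg (fun z => f z e) h'
  simp only [hf.add_left, hf.smul_left, hee, hvv, mul_zero, zero_add, add_zero,
    hzero_left hf] at h1 h2
  have hxe : f x e = 0 := by
    rcases mul_eq_zero.1 h1 with h | h
    · exact (mul_eq_zero.1 h).resolve_left hc'
    · exact absurd h (hswap_ne_zero hf hve)
  rw [hxe, mul_zero, zero_mul, add_zero] at h2
  exact ⟨(mul_eq_zero.1 ((mul_eq_zero.1 h2).resolve_right hve)).resolve_left hc, hxe⟩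

/-- A product of two transvections with non-orthogonal centres is not scalar. -/
theorem pair_not_scal {v e : ι → F} (hvv : f v v = 0) (hee : f e e = 0) (hve : f v e ≠ 0)
    {c c' : F} (hc : c ≠ 0) (hc' : c' ≠ 0) : ¬ IsScal (ut f v c * ut f e c') := by
  rintro ⟨r, hr⟩
  obtain ⟨w, hw, hwv, hwe⟩ := exists_pole hf h3 (v := v) (e := e)
  have h := (fix_pair hf h3 hvv hee hve hc hc' w).2 ⟨hwv, hwe⟩
  rw [hr] at h
  have hr1 : r = 1 := smul_left_injective F hw (h.trans (one_smul F w).symm)
  exact hve ((fix_pair hf h3 hvv hee hve hc hc' v).1 (by rw [hr, hr1, one_smul])).2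

/-- Commuting transvections have the same centre. -/
theorem prop_of_commute {v e : ι → F} (hvv : f v v = 0) (hee : f e e = 0) (he : e ≠ 0)
    {c c' : F} (hc : c ≠ 0) (hc' : c' ≠ 0) (h : Commute (ut f v c) (ut f e c')) :
    ∃ r : F, v = r • e := by
  by_cases hve : f v e = 0
  · exact prop_of_orth hf h3 hvv hee he hve
  exfalso
  have h1 := congrArg (fun g => ap g e) h.eq
  simp only [ap_mul, ap] at h1
  rw [ut_mulVec hf hee, hee, mul_zero, zero_smul, add_zero, ut_mulVec hf hvv,
    ut_mulVec hf hee] at h1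
  have h2 := congrArg (fun z => f z v) h1
  simp only [hf.add_left, hf.smul_left, hee, hvv, mul_zero, zero_add, add_zero] at h2
  have hev : f e v ≠ 0 := hswap_ne_zero hf hve
  have : c' * (c * f e v * f v e) * f e v = 0 := by linear_combination -h2
  simp [hc, hc', hev, hve] at this

/-- An involution of `SU₃` in characteristic two is a transvection. -/
theorem exists_ut_of_invol [CharP F 2] {k : GL ι F} (hk : k ∈ isom f) (h2 : k * k = 1)
    (h1 : k ≠ 1) : ∃ (v : ι → F) (c : F), v ≠ 0 ∧ f v v = 0 ∧ c ≠ 0 ∧ k = ut f v c := by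
  let N : (ι → F) →ₗ[F] (ι → F) := Matrix.mulVecLin (k : Matrix ι ι F) - LinearMap.id
  have hN : ∀ x, N x = ap k x - x := fun x => rfl
  have hsub : LinearMap.range N ≤ LinearMap.ker N := by
    rintro _ ⟨x, rfl⟩
    rw [LinearMap.mem_ker, hN, hN, ap, mulVec_sub, ← ap, ← ap, ← ap_mul, h2, ap_one]
    rw [sub_sub_sub_comm, sub_eq_zero]
    ext i
    simp [CharTwo.sub_eq_add, add_comm]
  have hd := LinearMap.finrank_range_add_finrank_ker N
  rw [Module.finrank_fintype_fun_eq_card, h3] at hd
  have hle := Submodule.finrank_mono hsub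
  have hne : LinearMap.range N ≠ ⊥ := fun h => h1 (gl_ext fun x => by
    have : N x = 0 := by rw [← Submodule.mem_bot F, ← h]; exact LinearMap.mem_range_self N x
    rw [Units.val_one, one_mulVec]
    exact sub_eq_zero.1 this)
  obtain ⟨v, hv, hv0⟩ := Submodule.exists_mem_ne_zero_of_ne_bot hne
  have hr1 : Module.finrank F (LinearMap.range N) = 1 := by
    have : Module.finrank F (LinearMap.range N) ≠ 0 := fun h => hne (Submodule.finrank_eq_zero.1 h)
    omega
  have hphi : ∀ x, ∃ a : F, N x = a • v := fun x => by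
    obtain ⟨a, ha⟩ := (finrank_eq_one_iff_of_nonzero' (⟨v, hv⟩ : LinearMap.range N)
      (fun h => hv0 (congrArg Subtype.val h))).1 hr1 ⟨N x, LinearMap.mem_range_self N x⟩
    exact ⟨a, (congrArg Subtype.val ha).symm⟩
  have hkv : ap k v = v := sub_eq_zero.1 (LinearMap.mem_ker.1 (hsub hv))
  have hkx : ∀ {x : ι → F} {a : F}, N x = a • v → ap k x = x + a • v := fun {x a} h => by
    rw [← h, hN]; abel
  have hxv : ∀ {x : ι → F} {a : F}, N x = a • v → a * f v v = 0 := fun {x a} h => by
    have := mem_isom.1 hk x v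
    rw [show (k : Matrix ι ι F) *ᵥ x = _ from hkx h, show (k : Matrix ι ι F) *ᵥ v = _ from hkv,
      hf.add_left, hf.smul_left] at this
    exact add_eq_left.1 this
  obtain ⟨x₁, hx₁⟩ := hv
  have hvv : f v v = 0 := by
    have := hxv (a := 1) (by rw [one_smul]; exact hx₁)
    rwa [one_mul] at this
  obtain ⟨y₀, hy₀⟩ := (hf.nondegenerate v hv0).2
  obtain ⟨y, hy⟩ : ∃ y, f v y = 1 := by
    refine ⟨(σ (f v y₀))⁻¹ • y₀, ?_⟩
    rw [hsmul_right hf, map_inv₀, hf.involutive]
    exact inv_mul_cancel₀ hy₀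
  obtain ⟨a₀, ha₀⟩ := hphi y
  refine ⟨v, -σ a₀, hv0, hvv, fun h => ?_, ?_⟩
  · have ha : a₀ = 0 := (map_eq_zero σ).1 (neg_eq_zero.1 h)
    refine h1 (gl_ext fun x => ?_)
    obtain ⟨a, ha'⟩ := hphi x
    have := mem_isom.1 hk x y
    rw [show (k : Matrix ι ι F) *ᵥ x = _ from hkx ha', show (k : Matrix ι ι F) *ᵥ y = _ from hkx ha₀,
      ha, zero_smul, add_zero, hf.add_left, hf.smul_left, hy, mul_one] at this
    rw [Units.val_one, one_mulVec, show (k : Matrix ι ι F) *ᵥ x = _ from hkx ha',
      add_eq_left.1 this, zero_smul, add_zero]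
  refine gl_ext fun x => ?_
  obtain ⟨a, ha'⟩ := hphi x
  have := mem_isom.1 hk x y
  rw [show (k : Matrix ι ι F) *ᵥ x = _ from hkx ha', show (k : Matrix ι ι F) *ᵥ y = _ from hkx ha₀,
    hf.add_left, hf.smul_left, hadd_right hf, hadd_right hf, hsmul_right hf, hsmul_right hf,
    hvv, hy, mul_zero, add_zero, mul_one] at this
  rw [show (k : Matrix ι ι F) *ᵥ x = _ from hkx ha', ut_mulVec hf hvv]
  congr 2
  linear_combination this

end Cfsg.Agent.SU3Geo98.SubfieldOdd
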